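import Groth.Agent.H23RInv.Basic

/-!
# Rings with involution: base change, localization, branch locus
-/

set_option autoImplicit false

universe u v w

open scoped TensorProduct

namespace Groth.Agent.H23RInv

variable {S : Type u} {R : Type v} [CommRing S] [CommRing R] [Algebra S R]

section BaseChange

variable (S' : Type w) [CommRing S'] [Algebra S S'] (lam : R ≃ₐ[S] R)

/-- The base change of an algebra automorphism. -/
noncomputable def bcLam : S' ⊗[S] R ≃+* S' ⊗[S] R :=
  (Algebra.TensorProduct.congr (AlgEquiv.refl : S' ≃ₐ[S] S') lam).toRingEquiv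

theorem bcLam_apply (z : S' ⊗[S] R) :
    bcLam S' lam z = lam.toLinearMap.lTensor S' z := by
  induction z using TensorProduct.induction_on with
  | zero => simp
  | add x y hx hy => rw [map_add, map_add, hx, hy]
  | tmul a b => simp [bcLam]

theorem bcLam_involutive (hlam : Function.Involutive lam) : Function.Involutive (bcLam S' lam) := by
  intro z
  rw [bcLam_apply, bcLam_apply, ← LinearMap.comp_apply, ← LinearMap.lTensor_comp]
  have : lam.toLinearMap ∘ₗ lam.toLinearMap = LinearMap.id := LinearMap.ext hlam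
  rw [this, LinearMap.lTensor_id]
  rfl

theorem algebraMap_eq_lTensor (a : S') :
    algebraMap S' (S' ⊗[S] R) a = (Algebra.linearMap S R).lTensor S' (a ⊗ₜ (1 : S)) := by
  simp

theorem isFixedRing_baseChange (hlam : Function.Involutive lam)
    (hS : RInv.IsFixedRing S R lam.toRingEquiv) (h : Module.Flat S S' ∨ IsUnit (2 : S)) :
    RInv.IsFixedRing S' (S' ⊗[S] R) (bcLam S' lam) := by
  set g := Algebra.linearMap S R with hg
  have hrid : ∀ w : S' ⊗[S] S, ∃ a : S', w = a ⊗ₜ (1 : S) := fun w =>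
    ⟨TensorProduct.rid S S' w, by
      rw [← TensorProduct.rid_symm_apply, LinearEquiv.symm_apply_apply]⟩
  rcases h with hflat | h2
  · set f : R →ₗ[S] R := lam.toLinearMap - LinearMap.id with hf
    have hex : Function.Exact g f := fun x =>
      ⟨fun hx => (hS.2 x).mp (sub_eq_zero.mp (by simpa [hf] using hx)),
        fun ⟨s, hs⟩ => by rw [← hs]; simp [hf, hg]⟩
    have hex' := Module.Flat.lTensor_exact S' hex
    have hinj := Module.Flat.lTensor_preserves_injective_linearMap (M := S') g hS.1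
    refine ⟨fun a b hab => ?_, fun x => ?_⟩
    · rw [algebraMap_eq_lTensor, algebraMap_eq_lTensor] at hab
      simpa using congrArg (TensorProduct.rid S S') (hinj hab)
    · have key : f.lTensor S' x = bcLam S' lam x - x := by
        rw [hf, LinearMap.lTensor_sub, LinearMap.lTensor_id, LinearMap.sub_apply, bcLam_apply]
        rfl
      rw [← sub_eq_zero, ← key, hex' x]
      constructor
      · rintro ⟨w, rfl⟩
        obtain ⟨a, rfl⟩ := hrid w
        exact ⟨a, algebraMap_eq_lTensor S' a⟩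
      · rintro ⟨a, rfl⟩
        exact ⟨_, (algebraMap_eq_lTensor S' a).symm⟩
  · obtain ⟨c, hc⟩ := isUnit_iff_exists_inv.mp h2
    set m : R →ₗ[S] R := c • (LinearMap.id + lam.toLinearMap) with hm
    have hmem : ∀ x, m x ∈ LinearMap.range g := by
      intro x
      refine (hS.2 _).mp ?_
      change lam (m x) = m x
      simp [hm, hlam x, add_comm]
    let π : R →ₗ[S] S := (LinearEquiv.ofInjective g hS.1).symm.toLinearMap ∘ₗ m.codRestrict _ hmem
    have hgπ : g ∘ₗ π = m := LinearMap.ext fun x => by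
      change g ((LinearEquiv.ofInjective g hS.1).symm ⟨m x, hmem x⟩) = m x
      exact congrArg Subtype.val ((LinearEquiv.ofInjective g hS.1).apply_symm_apply ⟨m x, hmem x⟩)
    have hπg : π ∘ₗ g = LinearMap.id := LinearMap.ext fun s => hS.1 (by
      have h3 := LinearMap.congr_fun hgπ (g s)
      rw [LinearMap.comp_apply] at h3
      change g (π (g s)) = g s
      rw [h3]
      change c • (g s + lam (g s)) = g s
      rw [hg, Algebra.linearMap_apply, AlgEquiv.commutes, ← two_smul S, smul_smul, mul_comm, hc,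
        one_smul])
    refine ⟨fun a b hab => ?_, fun x => ⟨fun hx => ?_, ?_⟩⟩
    · rw [algebraMap_eq_lTensor, algebraMap_eq_lTensor] at hab
      have h3 := congrArg (π.lTensor S') hab
      rw [← LinearMap.comp_apply, ← LinearMap.lTensor_comp, hπg, LinearMap.lTensor_id,
        LinearMap.id_apply, ← LinearMap.comp_apply, ← LinearMap.lTensor_comp, hπg,
        LinearMap.lTensor_id, LinearMap.id_apply] at h3
      simpa using congrArg (TensorProduct.rid S S') h3
    · obtain ⟨a, ha⟩ := hrid (π.lTensor S' x)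
      refine ⟨a, ?_⟩
      rw [algebraMap_eq_lTensor, ← ha, ← LinearMap.comp_apply, ← LinearMap.lTensor_comp, hgπ, hm,
        LinearMap.lTensor_smul, LinearMap.lTensor_add, LinearMap.lTensor_id, LinearMap.smul_apply,
        LinearMap.add_apply, LinearMap.id_apply, ← bcLam_apply, hx, ← two_smul S x, smul_smul,
        mul_comm, hc, one_smul]
    · rintro ⟨a, rfl⟩
      simp [bcLam]

end BaseChange

/-- An involution fixing the base as an algebra automorphism. -/
noncomputable def toAlg {lam : R ≃+* R} (hS : RInv.IsFixedRing S R lam) : R ≃ₐ[S] R :=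
  AlgEquiv.ofRingEquiv (f := lam) (lam_algebraMap hS)

theorem toAlg_apply {lam : R ≃+* R} (hS : RInv.IsFixedRing S R lam) (x : R) :
    toAlg hS x = lam x := rfl

section Local

variable {lam : R ≃+* R} (hlam : Function.Involutive lam) (hS : RInv.IsFixedRing S R lam)
  (S' : Type w) [CommRing S'] [Algebra S S'] [Module.Flat S S']
include hlam hS

theorem isFixedRing_flat :
    RInv.IsFixedRing S' (S' ⊗[S] R) (bcLam S' (toAlg hS)) :=
  isFixedRing_baseChange S' (toAlg hS) hlam hS (Or.inl inferInstance)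

theorem one_tmul_sub (r : R) :
    (1 : S') ⊗ₜ[S] r - bcLam S' (toAlg hS) ((1 : S') ⊗ₜ r) = (1 : S') ⊗ₜ (r - lam r) := by
  rw [TensorProduct.tmul_sub]
  simp [bcLam, toAlg]

theorem isQuadEtale_of_isUnit {r : R} {s : S} (hs : algebraMap S R s = (r - lam r) ^ 2)
    (h : IsUnit (algebraMap S S' s)) : RInv.IsQuadEtale S' (S' ⊗[S] R) := by
  refine isQuadEtale (bcLam_involutive S' (toAlg hS) hlam) (isFixedRing_flat hlam hS S')
    (r := (1 : S') ⊗ₜ r) ?_
  rw [one_tmul_sub hlam hS, ← isUnit_pow_iff (n := 2) two_ne_zero, Algebra.TensorProduct.tmul_pow,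
    one_pow, ← hs]
  have : (1 : S') ⊗ₜ[S] algebraMap S R s = algebraMap S' (S' ⊗[S] R) (algebraMap S S' s) := by
    rw [Algebra.TensorProduct.algebraMap_apply, Algebra.algebraMap_self, RingHom.id_apply,
      Algebra.algebraMap_eq_smul_one, TensorProduct.tmul_smul, TensorProduct.smul_tmul',
      ← Algebra.algebraMap_eq_smul_one]
  rw [this]
  exact h.map _

end Local

section Primes

variable {lam : R ≃+* R} (hlam : Function.Involutive lam) (hS : RInv.IsFixedRing S R lam)
include hlam hS

theorem isQuadEtale_atPrime_iff (p : PrimeSpectrum S) :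
    RInv.IsQuadEtale (Localization.AtPrime p.asIdeal) (Localization.AtPrime p.asIdeal ⊗[S] R) ↔
      ∃ r : R, ∃ s : S, algebraMap S R s = (r - lam r) ^ 2 ∧ s ∉ p.asIdeal := by
  set Sp := Localization.AtPrime p.asIdeal
  constructor
  · intro hq
    have hS' := isFixedRing_flat hlam hS Sp
    obtain ⟨z, hz⟩ := exists_sub_isUnit (bcLam_involutive Sp (toAlg hS) hlam) hS' hq
    have hsurj : ∀ z : Sp ⊗[S] R, ∃ t : S, t ∉ p.asIdeal ∧ ∃ r : R, t • z = (1 : Sp) ⊗ₜ r := by
      intro z
      induction z using TensorProduct.induction_on with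
      | zero => exact ⟨1, fun h => p.2.ne_top ((Ideal.eq_top_iff_one _).mpr h), 0, by simp⟩
      | add a b ha hb =>
        obtain ⟨t1, ht1, r1, e1⟩ := ha
        obtain ⟨t2, ht2, r2, e2⟩ := hb
        refine ⟨t1 * t2, fun h => (p.2.mem_or_mem h).elim ht1 ht2, t2 • r1 + t1 • r2, ?_⟩
        rw [smul_add, TensorProduct.tmul_add, TensorProduct.tmul_smul, TensorProduct.tmul_smul,
          ← e1, ← e2, smul_smul, smul_smul, mul_comm t1 t2]
      | tmul a x =>
        obtain ⟨⟨s, t⟩, hst⟩ := IsLocalization.surj p.asIdeal.primeCompl a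
        refine ⟨t, t.2, s • x, ?_⟩
        rw [TensorProduct.smul_tmul', TensorProduct.tmul_smul, TensorProduct.smul_tmul',
          Algebra.smul_def, Algebra.smul_def, mul_comm, hst, mul_one]
    obtain ⟨t, ht, r, hr⟩ := hsurj z
    obtain ⟨s, hs⟩ := exists_sq hlam hS r
    refine ⟨r, s, hs, fun hsp => ?_⟩
    have hu : IsUnit ((1 : Sp) ⊗ₜ[S] r - bcLam Sp (toAlg hS) ((1 : Sp) ⊗ₜ r)) := by
      have h5 : t • z = algebraMap S (Sp ⊗[S] R) t * z := Algebra.smul_def t z
      rw [← hr, bcLam_apply, LinearMap.map_smul, ← bcLam_apply, h5, Algebra.smul_def, ← mul_sub]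
      refine IsUnit.mul ?_ hz
      rw [IsScalarTower.algebraMap_apply S Sp (Sp ⊗[S] R)]
      exact (IsLocalization.map_units Sp (⟨t, ht⟩ : p.asIdeal.primeCompl)).map _
    have hu2 := hu.pow 2
    rw [one_tmul_sub hlam hS, Algebra.TensorProduct.tmul_pow, one_pow, ← hs] at hu2
    have h1 : (1 : Sp) ⊗ₜ[S] algebraMap S R s = algebraMap Sp (Sp ⊗[S] R) (algebraMap S Sp s) := by
      rw [Algebra.TensorProduct.algebraMap_apply, Algebra.algebraMap_self, RingHom.id_apply,
        Algebra.algebraMap_eq_smul_one, TensorProduct.tmul_smul, TensorProduct.smul_tmul',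
        ← Algebra.algebraMap_eq_smul_one]
    rw [h1] at hu2
    have h2 := isUnit_of_isUnit_algebraMap hS' hu2
    exact ((IsLocalization.AtPrime.isUnit_to_map_iff Sp p.asIdeal s).mp h2) hsp
  · rintro ⟨r, s, hs, hsp⟩
    exact isQuadEtale_of_isUnit hlam hS Sp hs
      (IsLocalization.map_units Sp (⟨s, hsp⟩ : p.asIdeal.primeCompl))

theorem branch_eq_zeroLocus :
    {p : PrimeSpectrum S | ¬ RInv.IsQuadEtale (Localization.AtPrime p.asIdeal)
      (Localization.AtPrime p.asIdeal ⊗[S] R)} =
    PrimeSpectrum.zeroLocus {s : S | ∃ r : R, algebraMap S R s = (r - lam r) ^ 2} := by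
  ext p
  rw [Set.mem_setOf_eq, isQuadEtale_atPrime_iff hlam hS, PrimeSpectrum.mem_zeroLocus]
  push Not
  exact ⟨fun h s ⟨r, hr⟩ => h r s hr, fun h r s hr => h ⟨r, hr⟩⟩

theorem forall_sub_mem_iff (q : Ideal R) [q.IsPrime] :
    (∀ r : R, lam r - r ∈ q) ↔
      ∀ (r : R) (s : S), algebraMap S R s = (r - lam r) ^ 2 → s ∈ q.comap (algebraMap S R) := by
  refine ⟨fun h r s hs => ?_, fun h r => ?_⟩
  · rw [Ideal.mem_comap, hs, ← neg_sub, neg_sq]
    exact Ideal.pow_mem_of_mem _ (h r) 2 two_pos
  · obtain ⟨s, hs⟩ := exists_sq hlam hS r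
    have h1 := h r s hs
    rw [Ideal.mem_comap, hs] at h1
    rw [← neg_sub]
    exact q.neg_mem (‹q.IsPrime›.mem_of_pow_mem 2 h1)

theorem eq_of_comap_eq (q q' : Ideal R) [q.IsPrime] [q'.IsPrime] (htriv : ∀ r, lam r - r ∈ q)
    (h : q'.comap (algebraMap S R) = q.comap (algebraMap S R)) : q' = q := by
  rcases eq_or_eq_comap hlam hS h with h1 | h1
  · exact h1
  · rw [h1]
    ext x
    rw [Ideal.mem_comap]
    exact ⟨fun hx => (Submodule.sub_mem_iff_right _ hx).mp (htriv x),
      fun hx => (Submodule.sub_mem_iff_left _ hx).mp (htriv x)⟩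

theorem exists_over (p : Ideal S) [p.IsPrime] :
    ∃ q : Ideal R, q.IsPrime ∧ q.comap (algebraMap S R) = p := by
  haveI := isIntegral hlam hS
  obtain ⟨q, -, hq, hqp⟩ := Ideal.exists_ideal_over_prime_of_isIntegral p (⊥ : Ideal R) (by
    intro x hx
    rw [Ideal.mem_comap, Ideal.mem_bot] at hx
    rw [show x = 0 from hS.1 (by rw [hx, map_zero])]
    exact p.zero_mem)
  exact ⟨q, hq, hqp⟩

theorem not_isQuadEtale_atPrime_iff (p : PrimeSpectrum S) :
    ¬ RInv.IsQuadEtale (Localization.AtPrime p.asIdeal) (Localization.AtPrime p.asIdeal ⊗[S] R) ↔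
      ∃ q : PrimeSpectrum R, q.asIdeal.comap (algebraMap S R) = p.asIdeal ∧
        (∀ q' : PrimeSpectrum R, q'.asIdeal.comap (algebraMap S R) = p.asIdeal → q' = q) ∧
        ∀ r : R, lam r - r ∈ q.asIdeal := by
  rw [isQuadEtale_atPrime_iff hlam hS]
  push Not
  constructor
  · intro h
    obtain ⟨q, hq, hqp⟩ := exists_over hlam hS p.asIdeal
    haveI := hq
    have htriv := (forall_sub_mem_iff hlam hS q).mpr fun r s hs => hqp.symm ▸ h r s hs
    exact ⟨⟨q, hq⟩, hqp, fun q' hq' => PrimeSpectrum.ext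
      (eq_of_comap_eq hlam hS q q'.asIdeal htriv (hq'.trans hqp.symm)), htriv⟩
  · rintro ⟨q, hqp, -, htriv⟩ r s hs
    exact hqp ▸ (forall_sub_mem_iff hlam hS q.asIdeal).mp htriv r s hs

theorem sub_mem_radical (W : Set (PrimeSpectrum S))
    (hW : W = {p : PrimeSpectrum S | ¬ RInv.IsQuadEtale (Localization.AtPrime p.asIdeal)
      (Localization.AtPrime p.asIdeal ⊗[S] R)}) (r : R) :
    lam r - r ∈ ((PrimeSpectrum.vanishingIdeal W).map (algebraMap S R)).radical := by
  obtain ⟨s, hs⟩ := exists_sq hlam hS r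
  have hmem : s ∈ PrimeSpectrum.vanishingIdeal W := by
    rw [PrimeSpectrum.mem_vanishingIdeal]
    intro p hp
    rw [hW, branch_eq_zeroLocus hlam hS] at hp
    exact hp ⟨r, hs⟩
  refine ⟨2, ?_⟩
  rw [← neg_sub, neg_sq, ← hs]
  exact Ideal.mem_map_of_mem _ hmem

theorem isHomeomorph_branch (W : Set (PrimeSpectrum S))
    (hW : W = {p : PrimeSpectrum S | ¬ RInv.IsQuadEtale (Localization.AtPrime p.asIdeal)
      (Localization.AtPrime p.asIdeal ⊗[S] R)})
    (J : Ideal R) (hJ : J = ((PrimeSpectrum.vanishingIdeal W).map (algebraMap S R)).radical)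
    (hIJ : PrimeSpectrum.vanishingIdeal W ≤ J.comap (algebraMap S R)) :
    IsHomeomorph (PrimeSpectrum.comap (Ideal.quotientMap J (algebraMap S R) hIJ)) ∧
      (IsUnit (2 : S) → Function.Bijective (Ideal.quotientMap J (algebraMap S R) hIJ)) := by
  haveI := isIntegral hlam hS
  set I := PrimeSpectrum.vanishingIdeal W with hI
  set φ := Ideal.quotientMap J (algebraMap S R) hIJ with hφ
  have htriv : ∀ r, lam r - r ∈ J := fun r => hJ ▸ sub_mem_radical hlam hS W hW r
  have hrad : I.IsRadical := PrimeSpectrum.isRadical_vanishingIdeal W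
  have hcomap : J.comap (algebraMap S R) ≤ I := by
    rw [← hrad.radical, Ideal.radical_eq_sInf]
    refine le_sInf fun p ⟨hIp, hp⟩ => ?_
    haveI := hp
    obtain ⟨q, hq, hqp⟩ := exists_over hlam hS p
    haveI := hq
    rw [← hqp]
    refine Ideal.comap_mono ?_
    rw [hJ, Ideal.IsRadical.radical_le_iff hq.isRadical, Ideal.map_le_iff_le_comap, hqp]
    exact hIp
  have hinj : Function.Injective φ := Ideal.quotientMap_injective' hcomap
  have hint : φ.IsIntegral := by
    intro x
    obtain ⟨r, rfl⟩ := Ideal.Quotient.mk_surjective x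
    obtain ⟨f, hf, hfr⟩ := Algebra.IsIntegral.isIntegral (R := S) r
    refine ⟨f.map (Ideal.Quotient.mk I), hf.map _, ?_⟩
    rw [Polynomial.eval₂_map, hφ, Ideal.quotientMap_comp_mk, ← Polynomial.hom_eval₂, hfr, map_zero]
  refine ⟨?_, fun h2 => ⟨hinj, ?_⟩⟩
  · rw [isHomeomorph_iff_continuous_isClosedMap_bijective]
    refine ⟨by fun_prop, PrimeSpectrum.isClosedMap_comap_of_isIntegral φ hint, ?_, ?_⟩
    · intro a b hab
      apply PrimeSpectrum.comap_injective_of_surjective (Ideal.Quotient.mk J) Ideal.Quotient.mk_surjective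
      refine (PrimeSpectrum.ext ?_).symm
      have h1 := congrArg (PrimeSpectrum.comap (Ideal.Quotient.mk I)) hab
      have e : ∀ c : PrimeSpectrum (R ⧸ J), (PrimeSpectrum.comap (Ideal.Quotient.mk I)
          (PrimeSpectrum.comap φ c)).asIdeal =
          (PrimeSpectrum.comap (Ideal.Quotient.mk J) c).asIdeal.comap (algebraMap S R) := fun c => by
        ext x; simp [hφ]
      refine eq_of_comap_eq hlam hS _ _ (fun r => ?_) ?_
      · rw [PrimeSpectrum.comap_asIdeal, Ideal.mem_comap,
          Ideal.Quotient.eq_zero_iff_mem.mpr (htriv r)]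
        exact Submodule.zero_mem _
      · rw [← e, ← e, h1]
    · intro p
      letI := φ.toAlgebra
      haveI : Algebra.IsIntegral (S ⧸ I) (R ⧸ J) := ⟨hint⟩
      obtain ⟨Q, -, hQ, hQp⟩ := Ideal.exists_ideal_over_prime_of_isIntegral p.asIdeal
        (⊥ : Ideal (R ⧸ J)) (fun x hx => by
          rw [Ideal.mem_comap, Ideal.mem_bot] at hx
          rw [show x = 0 from hinj (by rw [map_zero]; exact hx)]
          exact Submodule.zero_mem _)
      exact ⟨⟨Q, hQ⟩, PrimeSpectrum.ext hQp⟩
  · intro x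
    obtain ⟨r, rfl⟩ := Ideal.Quotient.mk_surjective x
    obtain ⟨c, hc⟩ := isUnit_iff_exists_inv.mp h2
    obtain ⟨t, ht⟩ := exists_add hlam hS r
    refine ⟨Ideal.Quotient.mk I (c * t), ?_⟩
    rw [hφ, Ideal.quotientMap_mk, Ideal.Quotient.eq, map_mul, ht]
    have hc' := congrArg (algebraMap S R) hc
    rw [map_mul, map_ofNat, map_one] at hc'
    have e : algebraMap S R c * (r + lam r) - r = algebraMap S R c * (lam r - r) := by
      linear_combination r * hc'
    rw [e]
    exact J.mul_mem_left _ (htriv r)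

end Primes

end Groth.Agent.H23RInv
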