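import Mathlib
import Groth.Prelude.Def_W4c2azumayainvolQEt

/-!
# Rings with involution and quadratic etale algebras
-/

set_option autoImplicit false

universe u v w

open scoped TensorProduct

namespace Groth.Agent.H23RInv

variable {S : Type u} {R : Type v} [CommRing S] [CommRing R] [Algebra S R] {lam : R ≃+* R}

/-- An element `x` of a separable extension with `2 x` and `x ^ 2` in the base lies in the base. -/
theorem mem_range_of_sq {k : Type*} {L : Type*} [Field k] [Field L] [Algebra k L]
    [Algebra.IsSeparable k L] (x : L) (t n : k) (ht : algebraMap k L t = x + x)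
    (hn : algebraMap k L n = x * x) : x ∈ (algebraMap k L).range := by
  let f : Polynomial k := Polynomial.X ^ 2 - Polynomial.C t * Polynomial.X + Polynomial.C n
  have hf0 : Polynomial.aeval x f = 0 := by
    simp only [f, map_add, map_sub, map_mul, map_pow, Polynomial.aeval_X, Polynomial.aeval_C, ht, hn]
    ring
  have hdvd : (minpoly k x).map (algebraMap k L) ∣ (Polynomial.X - Polynomial.C x) ^ 2 := by
    have := Polynomial.map_dvd (algebraMap k L) (minpoly.dvd k x hf0)
    convert this using 1
    simp only [f, Polynomial.map_add, Polynomial.map_sub, Polynomial.map_mul, Polynomial.map_pow,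
      Polynomial.map_X, Polynomial.map_C, ht, hn, map_add, map_mul]
    ring
  have hsep : ((minpoly k x).map (algebraMap k L)).Separable :=
    Polynomial.Separable.map (f := algebraMap k L) (Algebra.IsSeparable.isSeparable k x)
  obtain ⟨i, hi, hassoc⟩ := (dvd_prime_pow (Polynomial.prime_X_sub_C x) 2).mp hdvd
  have hle : i ≤ 1 := by
    by_contra hc
    obtain rfl : i = 2 := by omega
    have hsq := (hsep.of_dvd hassoc.symm.dvd).squarefree (Polynomial.X - Polynomial.C x) (by rw [sq])
    exact (Polynomial.prime_X_sub_C x).not_isUnit hsq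
  have hint : IsIntegral k x := Algebra.IsIntegral.isIntegral x
  have hdeg : (minpoly k x).natDegree ≤ 1 := by
    rw [← Polynomial.natDegree_map (algebraMap k L),
      Polynomial.natDegree_eq_of_degree_eq (Polynomial.degree_eq_degree_of_associated hassoc)]
    simp only [Polynomial.natDegree_pow, Polynomial.natDegree_X_sub_C, mul_one]
    exact hle
  exact minpoly.natDegree_eq_one_iff.mp (le_antisymm hdeg (minpoly.natDegree_pos hint))

section Elementary

variable (hlam : Function.Involutive lam) (hS : RInv.IsFixedRing S R lam)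
include hS

theorem lam_algebraMap (s : S) : lam (algebraMap S R s) = algebraMap S R s :=
  (hS.2 _).mpr ⟨s, rfl⟩

include hlam

theorem exists_add (r : R) : ∃ s : S, algebraMap S R s = r + lam r :=
  (hS.2 _).mp (by rw [map_add, hlam r, add_comm])

theorem exists_mul (r : R) : ∃ s : S, algebraMap S R s = r * lam r :=
  (hS.2 _).mp (by rw [map_mul, hlam r, mul_comm])

theorem exists_sq (r : R) : ∃ s : S, algebraMap S R s = (r - lam r) ^ 2 :=
  (hS.2 _).mp (by rw [map_pow, map_sub, hlam r]; ring)

theorem isIntegral : Algebra.IsIntegral S R := by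
  refine ⟨fun r => ?_⟩
  obtain ⟨t, ht⟩ := exists_add hlam hS r
  obtain ⟨n, hn⟩ := exists_mul hlam hS r
  refine ⟨Polynomial.X ^ 2 - (Polynomial.C t * Polynomial.X - Polynomial.C n), ?_, ?_⟩
  · refine Polynomial.monic_X_pow_sub ?_
    refine lt_of_le_of_lt (Polynomial.degree_sub_le _ _) (max_lt ?_ ?_)
    · exact lt_of_le_of_lt (Polynomial.degree_C_mul_X_le t) (by decide)
    · exact lt_of_le_of_lt Polynomial.degree_C_le (by decide)
  · simp [ht, hn]; ring

omit hlam

theorem isUnit_of_isUnit_algebraMap {s : S} (h : IsUnit (algebraMap S R s)) : IsUnit s := by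
  obtain ⟨u, hu⟩ := h
  obtain ⟨t, ht⟩ : (↑u⁻¹ : R) ∈ Set.range (algebraMap S R) := by
    refine (hS.2 _).mp ?_
    have h1 : lam (↑u⁻¹ : R) * (u : R) = 1 := by
      rw [hu, ← lam_algebraMap hS s, ← map_mul, ← hu, Units.inv_mul, map_one]
    exact Units.eq_inv_of_mul_eq_one_left (by rw [mul_comm]; exact h1)
  exact IsUnit.of_mul_eq_one t (hS.1 (by rw [map_mul, ht, ← hu, Units.mul_inv, map_one]))

include hlam

theorem exists_eq_add_mul {r : R} (hu : IsUnit (r - lam r)) (x : R) :
    ∃ a b : S, x = algebraMap S R a + algebraMap S R b * r := by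
  obtain ⟨u, hu⟩ := hu
  obtain ⟨b, hb⟩ : (↑u⁻¹ : R) * (x - lam x) ∈ Set.range (algebraMap S R) := by
    refine (hS.2 _).mp ?_
    have h1 : lam (↑u⁻¹ : R) = -(↑u⁻¹ : R) := by
      have h2 : lam (u : R) = -(u : R) := by rw [hu, map_sub, hlam r]; ring
      have h3 : lam (↑u⁻¹ : R) * lam (u : R) = 1 := by rw [← map_mul, Units.inv_mul, map_one]
      rw [h2, mul_neg, ← neg_mul] at h3
      exact neg_eq_iff_eq_neg.mp
        (Units.eq_inv_of_mul_eq_one_left (u := u) (a := -lam (↑u⁻¹ : R)) (by rw [mul_comm]; exact h3))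
    rw [map_mul, h1, map_sub, hlam x]; ring
  obtain ⟨a, ha⟩ : x - algebraMap S R b * r ∈ Set.range (algebraMap S R) := by
    refine (hS.2 _).mp ?_
    have h4 : (x - lam x) = algebraMap S R b * (r - lam r) := by
      rw [hb, ← hu, mul_right_comm, Units.inv_mul, one_mul]
    rw [map_sub, map_mul, lam_algebraMap hS]
    linear_combination -h4
  exact ⟨a, b, by rw [ha]; ring⟩

omit hlam

theorem eq_zero_of_add_mul {r : R} (hu : IsUnit (r - lam r)) {a b : S}
    (h : algebraMap S R a + algebraMap S R b * r = 0) : a = 0 ∧ b = 0 := by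
  have h' := congrArg lam h
  rw [map_add, map_mul, lam_algebraMap hS, lam_algebraMap hS, map_zero] at h'
  have hb : algebraMap S R b * (r - lam r) = 0 := by linear_combination h - h'
  have hb0 : algebraMap S R b = 0 := hu.mul_left_eq_zero.mp hb
  refine ⟨hS.1 ?_, hS.1 (by rw [hb0, map_zero])⟩
  rw [map_zero]
  simpa [hb0] using h

include hlam

theorem isQuadEtale {r : R} (hu : IsUnit (r - lam r)) : RInv.IsQuadEtale S R := by
  classical
  let e : (Fin 2 → S) ≃ₗ[S] R := by
    refine LinearEquiv.ofBijective ((Pi.basisFun S (Fin 2)).constr S ![(1 : R), r]) ⟨?_, fun x => ?_⟩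
    · rw [injective_iff_map_eq_zero]
      intro c hc
      rw [Module.Basis.constr_apply_fintype, Fin.sum_univ_two] at hc
      simp only [Pi.basisFun_equivFun, LinearEquiv.refl_apply, Algebra.smul_def] at hc
      simp only [Matrix.cons_val_zero, Matrix.cons_val_one, mul_one] at hc
      obtain ⟨h0, h1⟩ := eq_zero_of_add_mul hS hu hc
      funext i; fin_cases i <;> assumption
    · obtain ⟨a, b, rfl⟩ := exists_eq_add_mul hlam hS hu x
      refine ⟨![a, b], ?_⟩
      rw [Module.Basis.constr_apply_fintype, Fin.sum_univ_two]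
      simp [Algebra.smul_def]
  have : Module.Free S R := Module.Free.of_equiv e
  have : Module.Finite S R := Module.Finite.equiv e
  refine ⟨inferInstance, inferInstance, ?_, fun p => ?_⟩
  · rw [Algebra.formallyUnramified_iff]
    have hspan := KaehlerDifferential.span_range_derivation S R
    have hD : ∀ x, KaehlerDifferential.D S R x = 0 := by
      obtain ⟨t, ht⟩ := exists_add hlam hS r
      obtain ⟨n, hn⟩ := exists_mul hlam hS r
      have hf : r * r - algebraMap S R t * r = algebraMap S R (-n) := by rw [map_neg, ht, hn]; ring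
      have hf' := congrArg (KaehlerDifferential.D S R) hf
      simp only [map_sub, Derivation.leibniz, Derivation.map_algebraMap, smul_zero, add_zero,
        ← add_smul, ← sub_smul] at hf'
      have hr : KaehlerDifferential.D S R r = 0 := by
        have : r + r - algebraMap S R t = r - lam r := by rw [ht]; ring
        rw [this] at hf'
        obtain ⟨u, hu⟩ := hu
        rw [← hu] at hf'
        have := congrArg ((↑u⁻¹ : R) • ·) hf'
        simpa [smul_smul] using this
      intro x
      obtain ⟨a, b, rfl⟩ := exists_eq_add_mul hlam hS hu x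
      simp [Derivation.leibniz, hr]
    refine subsingleton_of_forall_eq 0 fun x => ?_
    have hx : x ∈ Submodule.span R (Set.range (KaehlerDifferential.D S R)) := by
      rw [hspan]; trivial
    induction hx using Submodule.span_induction with
    | mem z hz => obtain ⟨z, rfl⟩ := hz; exact hD z
    | zero => rfl
    | add _ _ _ _ h1 h2 => rw [h1, h2, add_zero]
    | smul c _ _ h => rw [h, smul_zero]
  · have : Nontrivial S := ⟨⟨0, 1, fun h => p.2.ne_top
      ((Ideal.eq_top_iff_one _).mpr (h ▸ Submodule.zero_mem _))⟩⟩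
    rw [Module.rankAtStalk_eq_finrank_of_free, Pi.natCast_apply, ← e.finrank_eq, Module.finrank_pi]
    simp

/-- Every prime over the same prime of `S` is `q` or `lam q`. -/
theorem le_or_le_comap {q q' : Ideal R} [q.IsPrime]
    (h : q'.comap (algebraMap S R) ≤ q.comap (algebraMap S R)) : q' ≤ q ∨ q' ≤ q.comap lam := by
  have hsub : (q' : Set R) ⊆ (q : Set R) ∪ (q.comap lam : Ideal R) := by
    intro x hx
    obtain ⟨n, hn⟩ := exists_mul hlam hS x
    have hn' : algebraMap S R n ∈ q := h (Ideal.mem_comap.mpr (hn ▸ q'.mul_mem_right _ hx))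
    rw [hn] at hn'
    exact (‹q.IsPrime›.mem_or_mem hn').imp id Ideal.mem_comap.mpr
  exact Ideal.subset_union.mp hsub

theorem eq_or_eq_comap {q q' : Ideal R} [q.IsPrime] [q'.IsPrime]
    (h : q'.comap (algebraMap S R) = q.comap (algebraMap S R)) : q' = q ∨ q' = q.comap lam := by
  haveI := isIntegral hlam hS
  have hc : (q.comap lam).comap (algebraMap S R) = q.comap (algebraMap S R) := by
    ext s; simp [lam_algebraMap hS]
  rcases le_or_le_comap hlam hS h.le with h1 | h1
  · rcases eq_or_lt_of_le h1 with h2 | h2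
    · exact Or.inl h2
    · exact absurd h (Ideal.IsIntegral.comap_lt_comap (R := S) h2).ne
  · rcases eq_or_lt_of_le h1 with h2 | h2
    · exact Or.inr h2
    · exact absurd (h.trans hc.symm) (Ideal.IsIntegral.comap_lt_comap (R := S) h2).ne

end Elementary

section Local

variable [IsLocalRing S]

theorem comap_eq_maximalIdeal [Algebra.IsIntegral S R] (M : Ideal R) [M.IsMaximal] :
    M.comap (algebraMap S R) = IsLocalRing.maximalIdeal S :=
  IsLocalRing.eq_maximalIdeal (Ideal.isMaximal_comap_of_isIntegral_of_isMaximal M)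

theorem map_maximalIdeal_le_jacobson [Algebra.IsIntegral S R] :
    (IsLocalRing.maximalIdeal S).map (algebraMap S R) ≤ Ring.jacobson R := by
  rw [Ring.jacobson_eq_sInf_isMaximal]
  refine le_sInf fun M (hM : M.IsMaximal) => ?_
  rw [Ideal.map_le_iff_le_comap, comap_eq_maximalIdeal M]

theorem mem_of_mem_jacobson {x : R} (hx : x ∈ Ring.jacobson R) (M : Ideal R) [M.IsMaximal] : x ∈ M := by
  rw [Ring.jacobson_eq_sInf_isMaximal, Submodule.mem_sInf] at hx
  exact hx M ‹_›

theorem exists_isUnit_of_notMem_jacobson (hlam : Function.Involutive lam)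
    (hS : RInv.IsFixedRing S R lam) {r : R} (h : lam r - r ∉ Ring.jacobson R) :
    IsUnit (r - lam r) := by
  haveI := isIntegral hlam hS
  obtain ⟨s, hs⟩ := exists_sq hlam hS r
  by_cases hsm : IsUnit s
  · have : IsUnit ((r - lam r) ^ 2) := hs ▸ hsm.map _
    exact (isUnit_pow_iff two_ne_zero).mp this
  · exfalso
    apply h
    rw [Ring.jacobson_eq_sInf_isMaximal, Submodule.mem_sInf]
    intro M hM
    haveI : Ideal.IsMaximal M := hM
    have : (r - lam r) ^ 2 ∈ M := by
      rw [← hs, ← Ideal.mem_comap, comap_eq_maximalIdeal M]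
      exact hsm
    have := hM.isPrime.mem_of_pow_mem _ this
    rw [← neg_sub]
    exact M.neg_mem this

section Fibre

variable (hq : RInv.IsQuadEtale S R)
include hq

theorem formallyUnramified_quotient :
    Algebra.FormallyUnramified (S ⧸ IsLocalRing.maximalIdeal S)
      (R ⧸ (IsLocalRing.maximalIdeal S).map (algebraMap S R)) := by
  haveI := hq.2.2.1
  haveI : Algebra.FormallyUnramified R (R ⧸ (IsLocalRing.maximalIdeal S).map (algebraMap S R)) :=
    Algebra.FormallyUnramified.of_surjective (Algebra.ofId R _) Ideal.Quotient.mk_surjective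
  haveI : Algebra.FormallyUnramified S (R ⧸ (IsLocalRing.maximalIdeal S).map (algebraMap S R)) :=
    Algebra.FormallyUnramified.comp S R _
  exact Algebra.FormallyUnramified.of_restrictScalars S _ _

theorem finite_quotient :
    Module.Finite (S ⧸ IsLocalRing.maximalIdeal S)
      (R ⧸ (IsLocalRing.maximalIdeal S).map (algebraMap S R)) := by
  haveI := hq.1
  exact Module.Finite.of_restrictScalars_finite S _ _

theorem finrank_quotient :
    Module.finrank (S ⧸ IsLocalRing.maximalIdeal S)
      (R ⧸ (IsLocalRing.maximalIdeal S).map (algebraMap S R)) = 2 := by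
  haveI := hq.1
  haveI := hq.2.1
  haveI : Module.Free S R := Module.free_of_flat_of_isLocalRing
  refine (IsLocalRing.finrank_quotient_map (R := S) (S := R)).trans ?_
  have := hq.2.2.2 ⟨IsLocalRing.maximalIdeal S, inferInstance⟩
  rwa [Module.rankAtStalk_eq_finrank_of_free] at this

theorem isReduced_quotient :
    IsReduced (R ⧸ (IsLocalRing.maximalIdeal S).map (algebraMap S R)) := by
  haveI := formallyUnramified_quotient hq
  haveI := finite_quotient hq
  letI := Ideal.Quotient.field (IsLocalRing.maximalIdeal S)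
  exact Algebra.FormallyUnramified.isReduced_of_field (S ⧸ IsLocalRing.maximalIdeal S) _

theorem nontrivial_quotient :
    Nontrivial (R ⧸ (IsLocalRing.maximalIdeal S).map (algebraMap S R)) := by
  have := finrank_quotient hq
  exact Module.nontrivial_of_finrank_pos (R := S ⧸ IsLocalRing.maximalIdeal S) (by omega)

theorem isArtinian_quotient :
    IsArtinianRing (R ⧸ (IsLocalRing.maximalIdeal S).map (algebraMap S R)) := by
  haveI := finite_quotient hq
  letI := Ideal.Quotient.field (IsLocalRing.maximalIdeal S)
  exact IsArtinianRing.of_finite (S ⧸ IsLocalRing.maximalIdeal S) _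

theorem jacobson_eq_map :
    Ring.jacobson R = (IsLocalRing.maximalIdeal S).map (algebraMap S R) := by
  haveI := hq.1
  haveI : Algebra.IsIntegral S R := Algebra.IsIntegral.of_finite S R
  refine le_antisymm (fun x hx => ?_) map_maximalIdeal_le_jacobson
  haveI := isReduced_quotient hq
  haveI := isArtinian_quotient hq
  rw [← Ideal.Quotient.eq_zero_iff_mem]
  have hx' : Ideal.Quotient.mk _ x ∈ nilradical (R ⧸ (IsLocalRing.maximalIdeal S).map (algebraMap S R)) := by
    rw [mem_nilradical, nilpotent_iff_mem_prime]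
    intro P hP
    haveI := hP
    haveI : P.IsMaximal := IsArtinianRing.isMaximal_of_isPrime P
    haveI : (P.comap (Ideal.Quotient.mk _)).IsMaximal :=
      Ideal.comap_isMaximal_of_surjective _ Ideal.Quotient.mk_surjective
    exact mem_of_mem_jacobson hx (P.comap (Ideal.Quotient.mk _))
  rwa [nilradical_eq_zero, Submodule.zero_eq_bot, Submodule.mem_bot] at hx'

end Fibre

section Trivial

variable (hlam : Function.Involutive lam) (hS : RInv.IsFixedRing S R lam)
  (h : ∀ r : R, lam r - r ∈ Ring.jacobson R)
include hlam hS h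

theorem isLocalRing_of_forall : IsLocalRing R := by
  haveI := isIntegral hlam hS
  haveI : Nontrivial R := hS.1.nontrivial
  obtain ⟨M, hM⟩ := Ideal.exists_maximal R
  refine IsLocalRing.of_unique_max_ideal ⟨M, hM, fun N hN => ?_⟩
  haveI := hM
  haveI := hN
  rcases eq_or_eq_comap hlam hS (q := M) (q' := N)
    ((comap_eq_maximalIdeal N).trans (comap_eq_maximalIdeal M).symm) with h1 | h1
  · exact h1
  · rw [h1]
    ext x
    rw [Ideal.mem_comap]
    have := mem_of_mem_jacobson (h x) M
    exact ⟨fun hx => (Submodule.sub_mem_iff_right _ hx).mp this,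
      fun hx => (Submodule.sub_mem_iff_left _ hx).mp this⟩

theorem not_isQuadEtale : ¬ RInv.IsQuadEtale S R := by
  intro hq
  haveI := isLocalRing_of_forall hlam hS h
  haveI := isIntegral hlam hS
  haveI := formallyUnramified_quotient hq
  haveI := finite_quotient hq
  haveI := isReduced_quotient hq
  have hjac := jacobson_eq_map hq
  haveI hmax : ((IsLocalRing.maximalIdeal S).map (algebraMap S R)).IsMaximal := by
    rw [← hjac, IsLocalRing.ringJacobson_eq_maximalIdeal]
    infer_instance
  letI := Ideal.Quotient.field (IsLocalRing.maximalIdeal S)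
  letI := Ideal.Quotient.field ((IsLocalRing.maximalIdeal S).map (algebraMap S R))
  haveI : Algebra.IsSeparable (S ⧸ IsLocalRing.maximalIdeal S)
      (R ⧸ (IsLocalRing.maximalIdeal S).map (algebraMap S R)) :=
    Algebra.FormallyUnramified.isSeparable _ _
  have hall : ∀ x : R ⧸ (IsLocalRing.maximalIdeal S).map (algebraMap S R),
      x ∈ (algebraMap (S ⧸ IsLocalRing.maximalIdeal S)
        (R ⧸ (IsLocalRing.maximalIdeal S).map (algebraMap S R))).range := by
    intro x
    obtain ⟨r, rfl⟩ := Ideal.Quotient.mk_surjective x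
    obtain ⟨t, ht⟩ := exists_add hlam hS r
    obtain ⟨n, hn⟩ := exists_mul hlam hS r
    have hl : Ideal.Quotient.mk ((IsLocalRing.maximalIdeal S).map (algebraMap S R)) (lam r) =
        Ideal.Quotient.mk _ r := by
      rw [Ideal.Quotient.eq, ← hjac]
      exact h r
    refine mem_range_of_sq _ (Ideal.Quotient.mk _ t) (Ideal.Quotient.mk _ n) ?_ ?_
    · exact (congrArg (Ideal.Quotient.mk _) ht).trans (by rw [map_add, hl])
    · exact (congrArg (Ideal.Quotient.mk _) hn).trans (by rw [map_mul, hl])
  have h2 := finrank_quotient hq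
  have h1 : Module.finrank (S ⧸ IsLocalRing.maximalIdeal S)
      (R ⧸ (IsLocalRing.maximalIdeal S).map (algebraMap S R)) = 1 :=
    finrank_eq_one 1 one_ne_zero fun x => by
      obtain ⟨c, hc⟩ := hall x
      exact ⟨c, by rw [← hc, Algebra.smul_def, mul_one]⟩
  omega

end Trivial

theorem exists_sub_isUnit (hlam : Function.Involutive lam) (hS : RInv.IsFixedRing S R lam)
    (hq : RInv.IsQuadEtale S R) : ∃ r : R, IsUnit (r - lam r) := by
  by_contra hc
  push Not at hc
  exact not_isQuadEtale hlam hS
    (fun r => by_contra fun hr => hc r (exists_isUnit_of_notMem_jacobson hlam hS hr)) hq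

theorem exists_units_eq (hlam : Function.Involutive lam) (hS : RInv.IsFixedRing S R lam)
    (hq : RInv.IsQuadEtale S R) (r : Rˣ) (hr : lam r * r = 1) :
    ∃ a : Rˣ, (r : R) = (a⁻¹ : Rˣ) * lam a := by
  haveI := isIntegral hlam hS
  suffices h : ∃ y : R, IsUnit (y + lam y * lam r) by
    obtain ⟨y, u, hu⟩ := h
    refine ⟨u, ?_⟩
    rw [hu, map_add, map_mul, hlam, hlam]
    have h2 : (u : R) * r = lam y + y * r := by
      rw [hu, add_mul, mul_assoc, hr]; ring
    rw [← h2, ← mul_assoc, Units.inv_mul, one_mul]
  obtain ⟨r0, hr0⟩ := exists_sub_isUnit hlam hS hq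
  haveI : Nontrivial R := hS.1.nontrivial
  have hlr : ∀ N : Ideal R, N.IsMaximal → lam r ∉ N := fun N hN hh =>
    hN.ne_top (Ideal.eq_top_of_isUnit_mem _ hh (IsUnit.of_mul_eq_one _ hr))
  have key : ∀ (M : Ideal R), M.IsMaximal → ∀ N : Ideal R, N.IsMaximal → N = M ∨ N = M.comap lam :=
    fun M _ N _ => eq_or_eq_comap hlam hS ((comap_eq_maximalIdeal N).trans (comap_eq_maximalIdeal M).symm)
  suffices h : ∃ y : R, ∀ N : Ideal R, N.IsMaximal → y + lam y * lam r ∉ N by
    obtain ⟨y, hy⟩ := h
    refine ⟨y, ?_⟩
    by_contra hn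
    obtain ⟨N, hN, hmem⟩ := exists_max_ideal_of_mem_nonunits hn
    exact hy N hN hmem
  obtain ⟨M, hM⟩ := Ideal.exists_maximal R
  haveI := hM
  by_cases hMM : M.comap lam = M
  · -- a single maximal ideal
    have huniq : ∀ N : Ideal R, N.IsMaximal → N = M := fun N hN => by
      rcases key M hM N hN with h | h
      · exact h
      · exact h.trans hMM
    by_cases h1 : 1 + lam r ∈ M
    · refine ⟨r0, fun N hN hmem => ?_⟩
      rw [huniq N hN] at hmem
      have : r0 - lam r0 ∈ M := by
        have e : r0 - lam r0 = (r0 + lam r0 * lam r) - lam r0 * (1 + lam r) := by ring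
        rw [e]
        exact M.sub_mem hmem (M.mul_mem_left _ h1)
      exact hM.ne_top (Ideal.eq_top_of_isUnit_mem _ this hr0)
    · refine ⟨1, fun N hN hmem => h1 ?_⟩
      rw [huniq N hN, map_one, one_mul] at hmem
      exact hmem
  · haveI : (M.comap lam).IsMaximal := Ideal.comap_isMaximal_of_surjective lam lam.surjective
    obtain ⟨y, hy, hyM⟩ : ∃ y, y ∈ M.comap lam ∧ y ∉ M := by
      by_contra hc
      push Not at hc
      exact hMM ((inferInstance : (M.comap lam).IsMaximal).eq_of_le hM.ne_top hc)
    refine ⟨y, fun N hN hmem => ?_⟩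
    rcases key M hM N hN with rfl | rfl
    · exact hyM ((Submodule.add_mem_iff_left _ (N.mul_mem_right _ (Ideal.mem_comap.mp hy))).mp hmem)
    · have h2 : lam y * lam r ∈ M.comap lam := (Submodule.add_mem_iff_right _ hy).mp hmem
      rcases hN.isPrime.mem_or_mem h2 with h3 | h3
      · exact hyM (by simpa [Ideal.mem_comap, hlam y] using h3)
      · exact hlr _ hN h3

theorem jacobson_sq_le (hlam : Function.Involutive lam) (hS : RInv.IsFixedRing S R lam)
    (h2 : IsUnit (2 : S)) :
    (Ring.jacobson R) ^ 2 ≤ (IsLocalRing.maximalIdeal S).map (algebraMap S R) := by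
  haveI := isIntegral hlam hS
  obtain ⟨c, hc⟩ := isUnit_iff_exists_inv.mp h2
  set half := algebraMap S R c with hhalf
  have hh : half + half = 1 := by
    rw [hhalf, ← map_add, ← two_mul, hc, map_one]
  have hlh : lam half = half := lam_algebraMap hS c
  have hlj : ∀ x ∈ Ring.jacobson R, lam x ∈ Ring.jacobson R := by
    intro x hx
    rw [Ring.jacobson_eq_sInf_isMaximal, Submodule.mem_sInf]
    intro M hM
    haveI : Ideal.IsMaximal M := hM
    haveI : (Ideal.comap lam M).IsMaximal := Ideal.comap_isMaximal_of_surjective lam lam.surjective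
    exact mem_of_mem_jacobson hx (Ideal.comap lam M)
  have hfix : ∀ x ∈ Ring.jacobson R, lam x = x →
      x ∈ (IsLocalRing.maximalIdeal S).map (algebraMap S R) := by
    intro x hx hxf
    obtain ⟨s, rfl⟩ := (hS.2 x).mp hxf
    haveI : Nontrivial R := hS.1.nontrivial
    obtain ⟨M, hM⟩ := Ideal.exists_maximal R
    haveI := hM
    refine Ideal.mem_map_of_mem _ ?_
    rw [← comap_eq_maximalIdeal (S := S) M]
    exact Ideal.mem_comap.mpr (mem_of_mem_jacobson hx M)
  rw [sq, Ideal.mul_le]
  intro x hx z hz
  have e : x * z = (half * (x + lam x)) * z + (half * (x - lam x)) * (half * (z + lam z))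
      + (half * (x - lam x)) * (half * (z - lam z)) := by
    linear_combination (-(x * z + half * (x - lam x) * z)) * hh
  rw [e]
  refine Submodule.add_mem _ (Submodule.add_mem _ ?_ ?_) ?_
  · exact Ideal.mul_mem_right _ _ (hfix _ (Ideal.mul_mem_left _ _ (Submodule.add_mem _ hx (hlj x hx)))
      (by rw [map_mul, hlh, map_add, hlam, add_comm]))
  · exact Ideal.mul_mem_left _ _ (hfix _ (Ideal.mul_mem_left _ _ (Submodule.add_mem _ hz (hlj z hz)))
      (by rw [map_mul, hlh, map_add, hlam, add_comm]))
  · exact hfix _ (Ideal.mul_mem_right _ _ (Ideal.mul_mem_left _ _ (Submodule.sub_mem _ hx (hlj x hx))))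
      (by rw [map_mul, map_mul, map_mul, hlh, map_sub, map_sub, hlam, hlam]; ring)

theorem bijective_algebraMap_of_finrank_eq_one {k : Type*} {B : Type*} [Field k] [CommRing B]
    [Algebra k B] (h : Module.finrank k B = 1) : Function.Bijective (Algebra.ofId k B) := by
  haveI : Nontrivial B := Module.nontrivial_of_finrank_pos (R := k) (by omega)
  haveI : Module.Finite k B := Module.finite_of_finrank_pos (by omega)
  exact ⟨(algebraMap k B).injective, (LinearMap.injective_iff_surjective_of_finrank_eq_finrank
    (f := Algebra.linearMap k B) (by rw [h, Module.finrank_self])).mp (algebraMap k B).injective⟩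

theorem isField_or_prod {k : Type*} {A : Type*} [Field k] [CommRing A] [Algebra k A]
    [Algebra.FormallyUnramified k A] [Module.Finite k A] [Nontrivial A]
    (h2 : Module.finrank k A = 2) :
    (IsField A ∧ Module.finrank k A = 2 ∧ Algebra.IsSeparable k A) ∨
      Nonempty (A ≃ₐ[k] (k × k)) := by
  haveI : IsReduced A := Algebra.FormallyUnramified.isReduced_of_field k A
  haveI : IsArtinianRing A := IsArtinianRing.of_finite k A
  obtain ⟨M, hM⟩ := Ideal.exists_maximal A
  haveI := hM
  by_cases hu : ∀ N : Ideal A, N.IsMaximal → N = M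
  · left
    have hbot : M = ⊥ := by
      refine le_antisymm (fun x hx => ?_) bot_le
      have hx' : x ∈ nilradical A := by
        rw [mem_nilradical, nilpotent_iff_mem_prime]
        intro P hP
        haveI := hP
        rw [hu P (IsArtinianRing.isMaximal_of_isPrime P)]
        exact hx
      rwa [nilradical_eq_zero, Submodule.zero_eq_bot] at hx'
    have hf : IsField A := by
      rw [Ring.isField_iff_isSimpleOrder_ideal, isSimpleOrder_iff_isCoatom_bot, ← hbot]
      exact Ideal.isMaximal_def.mp hM
    refine ⟨hf, h2, ?_⟩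
    letI := hf.toField
    exact Algebra.FormallyUnramified.isSeparable k A
  · right
    push Not at hu
    obtain ⟨N, hN, hne⟩ := hu
    haveI := hN
    let f : A →ₐ[k] (A ⧸ M) × (A ⧸ N) := (Ideal.Quotient.mkₐ k M).prod (Ideal.Quotient.mkₐ k N)
    have hsup : M ⊔ N = ⊤ := Ideal.IsMaximal.coprime_of_ne hM hN hne.symm
    have hsurj : Function.Surjective f := by
      rintro ⟨a, b⟩
      obtain ⟨a, rfl⟩ := Ideal.Quotient.mk_surjective a
      obtain ⟨b, rfl⟩ := Ideal.Quotient.mk_surjective b
      obtain ⟨m, hm, n, hn, hmn⟩ := Submodule.mem_sup.mp (hsup ▸ Submodule.mem_top (x := (1 : A)))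
      refine ⟨a * n + b * m, Prod.ext ?_ ?_⟩
      · change Ideal.Quotient.mk M _ = Ideal.Quotient.mk M a
        rw [Ideal.Quotient.eq]
        have : a * n + b * m - a = (b - a) * m := by linear_combination a * hmn
        rw [this]; exact M.mul_mem_left _ hm
      · change Ideal.Quotient.mk N _ = Ideal.Quotient.mk N b
        rw [Ideal.Quotient.eq]
        have : a * n + b * m - b = (a - b) * n := by linear_combination b * hmn
        rw [this]; exact N.mul_mem_left _ hn
    have hle := LinearMap.finrank_le_finrank_of_surjective (f := f.toLinearMap) hsurj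
    rw [h2, Module.finrank_prod] at hle
    have p1 : 0 < Module.finrank k (A ⧸ M) := Module.finrank_pos
    have p2 : 0 < Module.finrank k (A ⧸ N) := Module.finrank_pos
    have hbij : Function.Bijective f := ⟨(LinearMap.injective_iff_surjective_of_finrank_eq_finrank
      (f := f.toLinearMap) (by rw [h2, Module.finrank_prod]; omega)).mpr hsurj, hsurj⟩
    have e1 : Function.Bijective (Algebra.ofId k (A ⧸ M)) :=
      bijective_algebraMap_of_finrank_eq_one (by omega)
    have e2 : Function.Bijective (Algebra.ofId k (A ⧸ N)) :=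
      bijective_algebraMap_of_finrank_eq_one (by omega)
    exact ⟨(AlgEquiv.ofBijective f hbij).trans
      (AlgEquiv.prodCongr (AlgEquiv.ofBijective _ e1).symm (AlgEquiv.ofBijective _ e2).symm)⟩

theorem quotient_isField_or_prod (hq : RInv.IsQuadEtale S R) :
    (IsField (R ⧸ (IsLocalRing.maximalIdeal S).map (algebraMap S R)) ∧
      Module.finrank (S ⧸ IsLocalRing.maximalIdeal S)
        (R ⧸ (IsLocalRing.maximalIdeal S).map (algebraMap S R)) = 2 ∧
      Algebra.IsSeparable (S ⧸ IsLocalRing.maximalIdeal S)
        (R ⧸ (IsLocalRing.maximalIdeal S).map (algebraMap S R))) ∨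
    Nonempty ((R ⧸ (IsLocalRing.maximalIdeal S).map (algebraMap S R)) ≃ₐ[S ⧸ IsLocalRing.maximalIdeal S]
      ((S ⧸ IsLocalRing.maximalIdeal S) × (S ⧸ IsLocalRing.maximalIdeal S))) := by
  haveI := formallyUnramified_quotient hq
  haveI := finite_quotient hq
  haveI := nontrivial_quotient hq
  letI := Ideal.Quotient.field (IsLocalRing.maximalIdeal S)
  exact isField_or_prod (finrank_quotient hq)

end Local

end Groth.Agent.H23RInv
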