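import Groth.Agent.H23RInv.Basic
import Groth.Agent.H9Hens.PairOps
import Groth.Agent.H9Hens.Local
import Groth.Agent.H9Hens.SepClosed

/-!
# Rings with involution over a strictly henselian fixed ring
-/

set_option autoImplicit false
set_option linter.style.haveILetI false

universe u v

open IsLocalRing

namespace Groth.Agent.H23RInv

variable {S : Type u} [CommRing S]

/-- A local integral algebra over a henselian local ring is henselian. -/
theorem henselian_of_isIntegral [HenselianLocalRing S] [IsSepClosed (ResidueField S)] (T : Type v) [CommRing T]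
    [IsLocalRing T] [Algebra S T] [Algebra.IsIntegral S T] :
    ∃ (_ : HenselianLocalRing T), IsSepClosed (ResidueField T) := by
  haveI : IsLocalHom (algebraMap S T) := by
    refine ((local_hom_TFAE _).out 0 4).mpr ?_
    exact eq_maximalIdeal (Ideal.isMaximal_comap_of_isIntegral_of_isMaximal _)
  haveI : HenselianRing T ((maximalIdeal S).map (algebraMap S T)) :=
    H9Hens.henselianRing_of_isIntegral (I := maximalIdeal S) T
  haveI := H9Hens.henselianRing_radical (I := (maximalIdeal S).map (algebraMap S T))
  have hrad : ((maximalIdeal S).map (algebraMap S T)).radical = maximalIdeal T := by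
    refine le_antisymm ((maximalIdeal.isMaximal T).isPrime.radical_le_iff.mpr (map_maximalIdeal_le _)) ?_
    rw [Ideal.radical_eq_sInf]
    refine le_sInf fun P hP => ?_
    haveI := hP.2
    have h1 : maximalIdeal S ≤ P.comap (algebraMap S T) := Ideal.map_le_iff_le_comap.mp hP.1
    have h2 : P.IsMaximal := Ideal.isMaximal_of_isIntegral_of_isMaximal_comap P
      ((maximalIdeal.isMaximal S).eq_of_le (Ideal.IsPrime.ne_top (Ideal.comap_isPrime _ _)) h1 ▸ maximalIdeal.isMaximal S)
    exact (eq_maximalIdeal h2).ge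
  haveI : HenselianRing T (maximalIdeal T) := hrad ▸ inferInstance
  haveI : HenselianLocalRing T := H9Hens.henselianLocalRing_of_henselianRing
  refine ⟨inferInstance, ?_⟩
  haveI : Algebra.IsAlgebraic (ResidueField S) (ResidueField T) := by
    refine ⟨fun x => ?_⟩
    obtain ⟨t, rfl⟩ := residue_surjective x
    exact IsIntegral.isAlgebraic (IsIntegral.tower_top (A := ResidueField S)
      (IsIntegral.map (IsScalarTower.toAlgHom S T (ResidueField T)) (Algebra.IsIntegral.isIntegral (R := S) t)))
  exact H9Hens.isSepClosed_of_isAlgebraic (ResidueField S)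

variable {R : Type v} [CommRing R] [Algebra S R] {lam : R ≃+* R}

/-- The maximal ideals of a ring with involution over a local fixed ring. -/
theorem maximal_eq_or_eq [IsLocalRing S] (hlam : Function.Involutive lam) (hS : RInv.IsFixedRing S R lam)
    (M M' : Ideal R) [M.IsMaximal] [M'.IsMaximal] : M' = M ∨ M' = M.comap lam.toRingHom := by
  haveI : Algebra.IsIntegral S R := isIntegral hlam hS
  haveI : (M.comap lam.toRingHom).IsMaximal := Ideal.comap_isMaximal_of_surjective _ lam.surjective
  by_contra hc
  push Not at hc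
  have hsub : ¬ ((M' : Set R) ⊆ (M : Set R) ∪ (M.comap lam.toRingHom : Set R)) := by
    rw [Ideal.subset_union]
    rintro (h | h)
    · exact hc.1 (Ideal.IsMaximal.eq_of_le inferInstance (Ideal.IsPrime.ne_top inferInstance) h)
    · exact hc.2 (Ideal.IsMaximal.eq_of_le inferInstance (Ideal.IsPrime.ne_top inferInstance) h)
  obtain ⟨x, hx, hxn⟩ := Set.not_subset.mp hsub
  rw [Set.mem_union, not_or] at hxn
  obtain ⟨s, hs⟩ := exists_mul hlam hS x
  have h1 : s ∈ maximalIdeal S := by
    rw [← eq_maximalIdeal (Ideal.isMaximal_comap_of_isIntegral_of_isMaximal (R := S) M'), Ideal.mem_comap, hs]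
    exact M'.mul_mem_right _ hx
  have h2 : x * lam x ∈ M := by
    rw [← hs]
    exact Ideal.mem_comap.mp ((eq_maximalIdeal (Ideal.isMaximal_comap_of_isIntegral_of_isMaximal (R := S) M)).symm ▸ h1)
  exact ((inferInstance : M.IsPrime).mem_or_mem h2).elim hxn.1 hxn.2

/-- A quotient of `R` with a single maximal ideal above the kernel is local. -/
theorem isLocalRing_quotient_of_unique (J N : Ideal R) [N.IsMaximal] (hJN : J ≤ N)
    (huniq : ∀ N' : Ideal R, N'.IsMaximal → J ≤ N' → N' = N) : IsLocalRing (R ⧸ J) := by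
  haveI : Nontrivial (R ⧸ J) := Ideal.Quotient.nontrivial_iff.mpr (ne_top_of_le_ne_top (Ideal.IsPrime.ne_top inferInstance) hJN)
  obtain ⟨Q₀, hQ₀⟩ := Ideal.exists_maximal (R ⧸ J)
  refine IsLocalRing.of_unique_max_ideal ⟨Q₀, hQ₀, fun Q hQ => ?_⟩
  have hcom : ∀ Q : Ideal (R ⧸ J), Q.IsMaximal → Q.comap (Ideal.Quotient.mk J) = N := fun Q hQ => by
    haveI := hQ
    exact huniq _ (Ideal.comap_isMaximal_of_surjective _ Ideal.Quotient.mk_surjective)
      (fun x hx => by rw [Ideal.mem_comap, Ideal.Quotient.eq_zero_iff_mem.mpr hx]; exact Q.zero_mem)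
  exact Ideal.comap_injective_of_surjective _ Ideal.Quotient.mk_surjective ((hcom Q hQ).trans (hcom Q₀ hQ₀).symm)

/-- A ring with involution over a strictly henselian fixed ring is a product of strictly henselian local rings. -/
theorem exists_pi_henselian [HenselianLocalRing S] [IsSepClosed (ResidueField S)] (hlam : Function.Involutive lam)
    (hS : RInv.IsFixedRing S R lam) :
    ∃ (ι : Type) (_ : Fintype ι) (T : ι → Type v) (_ : ∀ i, CommRing (T i))
      (_ : ∀ i, HenselianLocalRing (T i)),
      (∀ i, IsSepClosed (ResidueField (T i))) ∧ Nonempty (R ≃+* (∀ i, T i)) := by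
  haveI : Algebra.IsIntegral S R := isIntegral hlam hS
  haveI : Nontrivial R := (hS.1 : Function.Injective (algebraMap S R)).nontrivial
  obtain ⟨M, hM⟩ := Ideal.exists_maximal R
  haveI : (M.comap lam.toRingHom).IsMaximal := Ideal.comap_isMaximal_of_surjective _ lam.surjective
  by_cases h1 : M.comap lam.toRingHom = M
  · haveI : IsLocalRing R := IsLocalRing.of_unique_max_ideal ⟨M, hM, fun M' hM' => by
      haveI := hM'
      exact (maximal_eq_or_eq hlam hS M M').elim id (fun h => h.trans h1)⟩
    obtain ⟨h₁, h₂⟩ := henselian_of_isIntegral (S := S) R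
    exact ⟨Unit, inferInstance, fun _ => R, fun _ => inferInstance, fun _ => h₁, fun _ => h₂,
      ⟨(RingEquiv.piUnique fun _ : Unit => R).symm⟩⟩
  let m := maximalIdeal S
  haveI : HenselianRing R (m.map (algebraMap S R)) := H9Hens.henselianRing_of_isIntegral (I := m) R
  haveI := H9Hens.henselianRing_radical (I := m.map (algebraMap S R))
  have hsub : M ⊓ M.comap lam.toRingHom ≤ (m.map (algebraMap S R)).radical := by
    rw [Ideal.radical_eq_sInf]
    refine le_sInf fun P hP => ?_
    haveI := hP.2
    have h' : m ≤ P.comap (algebraMap S R) := Ideal.map_le_iff_le_comap.mp hP.1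
    haveI : P.IsMaximal := Ideal.isMaximal_of_isIntegral_of_isMaximal_comap P
      ((maximalIdeal.isMaximal S).eq_of_le (Ideal.IsPrime.ne_top (Ideal.comap_isPrime _ _)) h' ▸ maximalIdeal.isMaximal S)
    rcases maximal_eq_or_eq hlam hS M P with h | h <;> rw [h]
    · exact inf_le_left
    · exact inf_le_right
  obtain ⟨a, ha, b, hb, hab⟩ := Submodule.mem_sup.mp ((Ideal.IsMaximal.coprime_of_ne hM inferInstance (fun h => h1 h.symm)).symm ▸
    Submodule.mem_top : (1 : R) ∈ M ⊔ M.comap lam.toRingHom)
  have hab' : b = 1 - a := by rw [← hab]; ring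
  obtain ⟨e, he, hea⟩ := H9Hens.exists_idem_lift_integral (I := (m.map (algebraMap S R)).radical) a (by
    rw [Algebra.algebraMap_self, Ideal.map_id]
    have : a * a - a = -(a * b) := by rw [hab']; ring
    rw [this, neg_mem_iff]
    exact hsub ⟨M.mul_mem_right _ ha, Ideal.mul_mem_left _ _ hb⟩)
  rw [Algebra.algebraMap_self, Ideal.map_id] at hea
  have hIM : (m.map (algebraMap S R)).radical ≤ M ⊓ M.comap lam.toRingHom := by
    refine le_inf ?_ ?_ <;>
      · refine (Ideal.IsPrime.radical_le_iff inferInstance).mpr (Ideal.map_le_iff_le_comap.mpr ?_)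
        exact (eq_maximalIdeal (Ideal.isMaximal_comap_of_isIntegral_of_isMaximal (R := S) _)).ge
  have heM : e ∈ M := by
    have := M.add_mem (hIM hea).1 ha
    rwa [sub_add_cancel] at this
  have heN : 1 - e ∈ M.comap lam.toRingHom := by
    have := Ideal.sub_mem _ hb (hIM hea).2
    rwa [hab', show 1 - a - (e - a) = 1 - e by ring] at this
  let J : Fin 2 → Ideal R := ![Ideal.span {e}, Ideal.span {1 - e}]
  have hloc : ∀ i, IsLocalRing (R ⧸ J i) := by
    intro i
    fin_cases i
    · refine isLocalRing_quotient_of_unique _ M ((Ideal.span_singleton_le_iff_mem _).mpr heM) fun N' hN' hle => ?_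
      haveI := hN'
      refine (maximal_eq_or_eq hlam hS M N').resolve_right fun h => ?_
      have he' : e ∈ M.comap lam.toRingHom := h ▸ (Ideal.span_singleton_le_iff_mem _).mp hle
      exact (Ideal.IsPrime.ne_top (inferInstance : (M.comap lam.toRingHom).IsPrime))
        ((Ideal.eq_top_iff_one _).mpr (by simpa using add_mem he' heN))
    · refine isLocalRing_quotient_of_unique _ (M.comap lam.toRingHom)
        ((Ideal.span_singleton_le_iff_mem _).mpr heN) fun N' hN' hle => ?_
      haveI := hN'
      refine (maximal_eq_or_eq hlam hS M N').resolve_left fun h => ?_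
      have he' : 1 - e ∈ M := h ▸ (Ideal.span_singleton_le_iff_mem _).mp hle
      exact hM.ne_top ((Ideal.eq_top_iff_one _).mpr (by simpa using add_mem he' heM))
  have hd : ∀ i, ∃ (_ : HenselianLocalRing (R ⧸ J i)), IsSepClosed (ResidueField (R ⧸ J i)) := fun i =>
    haveI := hloc i
    henselian_of_isIntegral (S := S) (R ⧸ J i)
  choose h₁ h₂ using hd
  have hco : Pairwise fun i j => IsCoprime (J i) (J j) := by
    intro i j hij
    have h01 : IsCoprime (Ideal.span {e}) (Ideal.span {1 - e}) :=
      (Ideal.isCoprime_span_singleton_iff _ _).mpr ⟨1, 1, by ring⟩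
    fin_cases i <;> fin_cases j
    all_goals first | exact absurd rfl hij | exact h01 | exact h01.symm
  have hbot : ⨅ i, J i = ⊥ := by
    rw [eq_bot_iff]
    intro x hx
    rw [Submodule.mem_iInf] at hx
    obtain ⟨c, hc⟩ := Ideal.mem_span_singleton.mp (hx 0)
    obtain ⟨d, hd⟩ := Ideal.mem_span_singleton.mp (hx 1)
    have hx1 : x = e * x := by
      rw [hc, ← mul_assoc, he.eq]
    rw [Ideal.mem_bot, hx1, hd, ← mul_assoc, mul_sub, mul_one, he.eq, sub_self, zero_mul]
  exact ⟨Fin 2, inferInstance, fun i => R ⧸ J i, fun i => inferInstance, h₁, h₂,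
    ⟨((RingEquiv.quotientBot R).symm.trans (Ideal.quotEquivOfEq hbot.symm)).trans
      (Ideal.quotientInfRingEquivPiQuotient J hco)⟩⟩

end Groth.Agent.H23RInv
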