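import Groth.Agent.H23RInv.Basic

/-!
# Hermitian forms over semilocal rings with involution
-/

set_option autoImplicit false

universe u v w

open Matrix

namespace Groth.Agent.H23RInv.Herm

variable {A : Type v} [CommRing A]

/-- `λ`-transpose. -/
def ct {m n : Type*} (lam : A ≃+* A) (M : Matrix m n A) : Matrix n m A := (M.map lam).transpose

variable {lam : A ≃+* A}

theorem ct_apply {m n : Type*} (M : Matrix m n A) (i : n) (j : m) : ct lam M i j = lam (M j i) := rfl

theorem ct_mul {l m n : Type*} [Fintype m] (M : Matrix l m A) (N : Matrix m n A) :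
    ct lam (M * N) = ct lam N * ct lam M := by
  ext i j; simp [ct_apply, Matrix.mul_apply, map_sum, mul_comm]

theorem ct_ct (hlam : Function.Involutive lam) {m n : Type*} (M : Matrix m n A) :
    ct lam (ct lam M) = M := by
  ext i j; exact hlam _

theorem ct_one {n : Type*} [DecidableEq n] : ct lam (1 : Matrix n n A) = 1 := by
  ext i j; simp [ct_apply, Matrix.one_apply, eq_comm, apply_ite lam]

theorem ct_fromBlocks {l m n o : Type*} (P : Matrix l n A) (Q : Matrix l o A) (R : Matrix m n A)
    (S : Matrix m o A) :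
    ct lam (fromBlocks P Q R S) = fromBlocks (ct lam P) (ct lam R) (ct lam Q) (ct lam S) := by
  simp only [ct, Matrix.fromBlocks_map, Matrix.fromBlocks_transpose]

theorem ct_submatrix {m n m' n' : Type*} (M : Matrix m n A) (f : m' → m) (g : n' → n) :
    ct lam (M.submatrix f g) = (ct lam M).submatrix g f := rfl

/-- Congruence. -/
def Cong (lam : A ≃+* A) {n : Type*} [Fintype n] [DecidableEq n] (h h' : Matrix n n A) : Prop :=
  ∃ v : Matrix n n A, IsUnit v ∧ ct lam v * h * v = h'

section cong

variable {n : Type*} [Fintype n] [DecidableEq n]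

theorem Cong.rfl' (h : Matrix n n A) : Cong lam h h :=
  ⟨1, isUnit_one, by rw [ct_one, one_mul, mul_one]⟩

theorem Cong.trans {h h' h'' : Matrix n n A} (h1 : Cong lam h h') (h2 : Cong lam h' h'') :
    Cong lam h h'' := by
  obtain ⟨v, hv, rfl⟩ := h1
  obtain ⟨w, hw, rfl⟩ := h2
  exact ⟨v * w, hv.mul hw, by simp only [ct_mul, mul_assoc]⟩

theorem isUnit_ct {v : Matrix n n A} (h : IsUnit v) : IsUnit (ct lam v) := by
  obtain ⟨u, rfl⟩ := h
  refine ⟨⟨ct lam (u : Matrix n n A), ct lam (↑u⁻¹ : Matrix n n A), ?_, ?_⟩, rfl⟩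
  · rw [← ct_mul, Units.inv_mul, ct_one]
  · rw [← ct_mul, Units.mul_inv, ct_one]

theorem Cong.isUnit {h h' : Matrix n n A} (h1 : Cong lam h h') (hh : IsUnit h) : IsUnit h' := by
  obtain ⟨v, hv, rfl⟩ := h1
  exact ((isUnit_ct hv).mul hh).mul hv

theorem Cong.herm (hlam : Function.Involutive lam) {ε : A} {h h' : Matrix n n A}
    (h1 : Cong lam h h') (hh : ε • ct lam h = h) : ε • ct lam h' = h' := by
  obtain ⟨v, hv, rfl⟩ := h1
  rw [ct_mul, ct_mul, ct_ct hlam]
  conv_rhs => rw [← hh]
  simp only [smul_mul_assoc, mul_smul_comm, mul_assoc]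

theorem Cong.submatrix {m : Type*} [Fintype m] [DecidableEq m] (e : m ≃ n) {h h' : Matrix n n A}
    (h1 : Cong lam h h') : Cong lam (h.submatrix e e) (h'.submatrix e e) := by
  obtain ⟨v, hv, rfl⟩ := h1
  refine ⟨v.submatrix e e, (Matrix.isUnit_submatrix_equiv e e).mpr hv, ?_⟩
  rw [ct_submatrix, Matrix.submatrix_mul_equiv, Matrix.submatrix_mul_equiv]

theorem cong_perm (e : n ≃ n) (h : Matrix n n A) : Cong lam h (h.submatrix e e) := by
  refine ⟨(1 : Matrix n n A).submatrix id e, ?_, ?_⟩
  · exact (Matrix.isUnit_submatrix_equiv (Equiv.refl n) e).mpr isUnit_one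
  · rw [ct_submatrix, ct_one]
    ext i j
    simp [Matrix.mul_apply, Matrix.one_apply]

theorem fromBlocks_cong {m : Type*} [Fintype m] [DecidableEq m] (P : Matrix n n A)
    {S S' : Matrix m m A} (h1 : Cong lam S S') :
    Cong lam (fromBlocks P 0 0 S) (fromBlocks P 0 0 S') := by
  obtain ⟨v, hv, rfl⟩ := h1
  refine ⟨fromBlocks 1 0 0 v, Matrix.isUnit_fromBlocks_zero₁₂.mpr ⟨isUnit_one, hv⟩, ?_⟩
  have h0 : ct lam (0 : Matrix n m A) = 0 := by ext i j; simp [ct_apply]
  have h0' : ct lam (0 : Matrix m n A) = 0 := by ext i j; simp [ct_apply]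
  simp [ct_fromBlocks, ct_one, h0, h0', Matrix.fromBlocks_multiply]

/-- Splitting off an invertible block. -/
theorem cong_split (hlam : Function.Involutive lam) {ε : A} {m : Type*} [Fintype m] [DecidableEq m]
    {P : Matrix n n A} {Q : Matrix n m A} {R : Matrix m n A} {S : Matrix m m A}
    (hh : ε • ct lam (fromBlocks P Q R S) = fromBlocks P Q R S) (hP : IsUnit P) :
    Cong lam (fromBlocks P Q R S) (fromBlocks P 0 0 (S - R * P⁻¹ * Q)) := by
  have hdet : IsUnit P.det := (Matrix.isUnit_iff_isUnit_det P).mp hP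
  set v := fromBlocks (1 : Matrix n n A) (-(P⁻¹ * Q)) 0 (1 : Matrix m m A) with hv
  have hu : IsUnit v := Matrix.isUnit_fromBlocks_zero₂₁.mpr ⟨isUnit_one, isUnit_one⟩
  have h0 : ct lam (0 : Matrix m n A) = 0 := by ext i j; simp [ct_apply]
  have hhv : fromBlocks P Q R S * v = fromBlocks P 0 R (S - R * P⁻¹ * Q) := by
    simp [hv, Matrix.fromBlocks_multiply, ← Matrix.mul_assoc, Matrix.mul_nonsing_inv P hdet,
      sub_eq_neg_add]
  have hres : ct lam v * (fromBlocks P Q R S * v) =
      fromBlocks P 0 (ct lam (-(P⁻¹ * Q)) * P + R) (S - R * P⁻¹ * Q) := by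
    rw [hhv, hv, ct_fromBlocks, ct_one, ct_one, h0]
    simp [Matrix.fromBlocks_multiply]
  refine ⟨v, hu, ?_⟩
  rw [mul_assoc, hres]
  have hherm := Cong.herm (ε := ε) hlam (⟨v, hu, by rw [mul_assoc, hres]⟩ :
    Cong lam (fromBlocks P Q R S) (fromBlocks P 0 (ct lam (-(P⁻¹ * Q)) * P + R) (S - R * P⁻¹ * Q))) hh
  rw [ct_fromBlocks] at hherm
  have : ct lam (-(P⁻¹ * Q)) * P + R = 0 := by
    ext i j
    have := congrFun (congrFun hherm (Sum.inr i)) (Sum.inl j)
    simpa [ct_apply] using this.symm
  rw [this]

end cong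

/-- Alternating matrices of odd size have determinant `0`. -/
theorem det_alternating {L : Type*} [CommRing L] {n : ℕ} (hn : Odd n) (M : Matrix (Fin n) (Fin n) L)
    (hd : ∀ i, M i i = 0) (ha : ∀ i j, M j i = -M i j) : M.det = 0 := by
  let G : Matrix (Fin n) (Fin n) (MvPolynomial (Fin n × Fin n) ℤ) := Matrix.of fun i j =>
    if i < j then MvPolynomial.X (i, j) else if j < i then -MvPolynomial.X (j, i) else 0
  have hG : G.transpose = -G := by
    ext i j : 2
    simp only [Matrix.transpose_apply, Matrix.neg_apply, G, Matrix.of_apply]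
    rcases lt_trichotomy i j with h | rfl | h
    · simp [h, h.not_gt]
    · simp
    · simp [h, h.not_gt]
  have hdet : G.det = 0 := by
    have := congrArg Matrix.det hG
    rw [Matrix.det_transpose, Matrix.det_neg, Fintype.card_fin, hn.neg_one_pow, neg_one_mul] at this
    exact CharZero.eq_neg_self_iff.mp this
  let f := MvPolynomial.eval₂Hom (Int.castRingHom L) fun p : Fin n × Fin n => M p.1 p.2
  have hM : f.mapMatrix G = M := by
    ext i j
    simp only [RingHom.mapMatrix_apply, Matrix.map_apply, G, Matrix.of_apply]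
    rcases lt_trichotomy i j with h | rfl | h
    · simp [h, f]
    · simp [hd, f]
    · simp [h, h.not_gt, f, ← ha j i]
  rw [← hM, ← RingHom.map_det, hdet, map_zero]

section Setup

variable {B : Type u} [CommRing B] [Algebra B A] [IsLocalRing B]
variable (hlam : Function.Involutive lam) (hB : RInv.IsFixedRing B A lam)
include hlam hB

theorem lam_mem_jacobson {x : A} (hx : x ∈ Ring.jacobson A) : lam x ∈ Ring.jacobson A := by
  rw [Ring.jacobson_eq_sInf_isMaximal, Submodule.mem_sInf]
  intro M hM
  haveI : Ideal.IsMaximal M := hM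
  haveI : (Ideal.comap lam M).IsMaximal := Ideal.comap_isMaximal_of_surjective lam lam.surjective
  exact mem_of_mem_jacobson hx (Ideal.comap lam M)

theorem mem_jacobson_of_not_isUnit {ε x : A} (hx : lam x = ε * x) (hn : ¬ IsUnit x) :
    x ∈ Ring.jacobson A := by
  haveI := isIntegral hlam hB
  obtain ⟨M, hM, hxM⟩ := exists_max_ideal_of_mem_nonunits hn
  rw [Ring.jacobson_eq_sInf_isMaximal, Submodule.mem_sInf]
  intro N hN
  haveI : Ideal.IsMaximal N := hN
  haveI := hM
  rcases eq_or_eq_comap hlam hB (q := M) (q' := N)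
    ((comap_eq_maximalIdeal (S := B) N).trans (comap_eq_maximalIdeal M).symm) with h | h
  · exact h ▸ hxM
  · rw [h, Ideal.mem_comap, hx]
    exact M.mul_mem_left _ hxM

theorem isUnit_add_of_mem_jacobson {a x : A} (ha : IsUnit a) (hx : x ∈ Ring.jacobson A) :
    IsUnit (a + x) := by
  by_contra hn
  obtain ⟨M, hM, hm⟩ := exists_max_ideal_of_mem_nonunits hn
  haveI := hM
  exact hM.ne_top (Ideal.eq_top_of_isUnit_mem _
    ((Submodule.add_mem_iff_left _ (mem_of_mem_jacobson hx M)).mp hm) ha)

end Setup

section Forms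

variable {n : Type*} [Fintype n]

/-- The sesquilinear form. -/
def form (lam : A ≃+* A) (h : Matrix n n A) (x y : n → A) : A := (fun i => lam (x i)) ⬝ᵥ (h *ᵥ y)

theorem form_add_left (h : Matrix n n A) (x x' y : n → A) :
    form lam h (x + x') y = form lam h x y + form lam h x' y := by
  rw [form, form, form, ← add_dotProduct]
  congr 1; funext i; simp

theorem form_add_right (h : Matrix n n A) (x y y' : n → A) :
    form lam h x (y + y') = form lam h x y + form lam h x y' := by
  rw [form, form, form, Matrix.mulVec_add, dotProduct_add]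

theorem form_single [DecidableEq n] (h : Matrix n n A) (i j : n) (a b : A) :
    form lam h (Pi.single i a) (Pi.single j b) = lam a * h i j * b := by
  have : (fun l => lam ((Pi.single i a : n → A) l)) = Pi.single i (lam a) := by
    funext l; rcases eq_or_ne l i with rfl | hl <;> simp [*]
  rw [form, this, single_dotProduct, Matrix.mulVec_single]
  simp [mul_assoc]

theorem form_swap (hlam : Function.Involutive lam) {ε : A} {h : Matrix n n A}
    (hh : ε • ct lam h = h) (x y : n → A) :
    form lam h y x = ε * lam (form lam h x y) := by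
  simp only [form, dotProduct, Matrix.mulVec, map_sum, map_mul, Finset.mul_sum]
  rw [Finset.sum_comm]
  refine Finset.sum_congr rfl fun i _ => Finset.sum_congr rfl fun j _ => ?_
  have := congrFun (congrFun hh j) i
  simp only [Matrix.smul_apply, smul_eq_mul, ct_apply] at this
  rw [hlam, ← this]
  ring

theorem form_mulVec {m : Type*} [Fintype m] (h : Matrix n n A) (v : Matrix n m A) (x y : m → A) :
    form lam (ct lam v * h * v) x y = form lam h (v *ᵥ x) (v *ᵥ y) := by
  have : (fun i => lam ((v *ᵥ x) i)) = (fun i => lam (x i)) ᵥ* ct lam v := by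
    funext i
    simp [Matrix.mulVec, Matrix.vecMul, dotProduct, ct_apply, mul_comm, map_sum]
  rw [form, form, this, ← Matrix.dotProduct_mulVec, Matrix.mulVec_mulVec, Matrix.mulVec_mulVec,
    Matrix.mul_assoc]

end Forms

section Diag

variable {B : Type u} [CommRing B] [Algebra B A] [IsLocalRing B]
variable (hlam : Function.Involutive lam) (hB : RInv.IsFixedRing B A lam)
variable {ε : A} (hε : ε = 1 ∨ ε = -1)
include hlam hB hε

theorem form_mem_or_isUnit {n : Type*} [Fintype n] {h : Matrix n n A} (hh : ε • ct lam h = h)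
    (x : n → A) : IsUnit (form lam h x x) ∨ form lam h x x ∈ Ring.jacobson A := by
  refine or_iff_not_imp_left.mpr fun hn => mem_jacobson_of_not_isUnit hlam hB (ε := ε) ?_ hn
  conv_rhs => rw [form_swap hlam hh x x]
  rcases hε with rfl | rfl <;> simp

theorem not_allJacobson {n : Type*} [Fintype n] [DecidableEq n] {h : Matrix n n A}
    (hh : ε • ct lam h = h) (hJ : ∀ x, form lam h x x ∈ Ring.jacobson A) (x y : n → A) :
    form lam h x y + ε * lam (form lam h x y) ∈ Ring.jacobson A := by
  have := Submodule.sub_mem _ (hJ (x + y)) (Submodule.add_mem _ (hJ x) (hJ y))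
  rw [form_add_left, form_add_right, form_add_right, ← form_swap hlam hh x y] at *
  convert this using 1
  ring

theorem exists_cong_corner {n : Type*} [Fintype n] [DecidableEq n] (i₀ : n) {h : Matrix n n A}
    (hh : ε • ct lam h = h) (hx : ∃ x, IsUnit (form lam h x x)) :
    ∃ h', Cong lam h h' ∧ IsUnit (h' i₀ i₀) := by
  have key : ∃ (i : n) (h' : Matrix n n A), Cong lam h h' ∧ IsUnit (h' i i) := by
    by_contra hc
    push Not at hc
    have hd : ∀ i, h i i ∈ Ring.jacobson A := fun i => by
      rcases form_mem_or_isUnit hlam hB hε hh (Pi.single i 1) with h1 | h1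
      · rw [form_single] at h1
        simp only [map_one, one_mul, mul_one] at h1
        exact absurd h1 (hc i h (Cong.rfl' h))
      · rw [form_single] at h1
        simpa using h1
    have hpair : ∀ i j, i ≠ j → ∀ a b : A,
        lam a * h i j * b + ε * lam (lam a * h i j * b) ∈ Ring.jacobson A := by
      intro i j hij a b
      have hsymm : ∀ z : A, h i j * z + ε * lam (h i j * z) ∈ Ring.jacobson A := by
        intro z
        set x : n → A := Pi.single i 1 + Pi.single j z with hxdef
        have hmem : form lam h x x ∈ Ring.jacobson A := by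
          refine (form_mem_or_isUnit hlam hB hε hh x).resolve_left fun hu => ?_
          refine hc i _ ⟨Matrix.transvection j i z, ?_, rfl⟩ ?_
          · rw [Matrix.isUnit_iff_isUnit_det, Matrix.det_transvection_of_ne _ _ hij.symm]
            exact isUnit_one
          · have hcol : (Matrix.transvection j i z) *ᵥ (Pi.single i 1) = x := by
              rw [Matrix.mulVec_single_one]
              funext l
              rcases eq_or_ne l i with rfl | hl
              · simp [hxdef, Matrix.transvection, Matrix.single, hij, hij.symm]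
              · rcases eq_or_ne l j with rfl | hlj
                · simp [hxdef, Matrix.transvection, Matrix.single, hl]
                · simp [hxdef, Matrix.transvection, Matrix.single, hl, hlj, hlj.symm]
            rw [← hcol, ← form_mulVec, form_single] at hu
            simpa using hu
        rw [hxdef, form_add_left, form_add_right, form_add_right,
          form_swap hlam hh (Pi.single i (1 : A)) (Pi.single j z), form_single, form_single,
          form_single] at hmem
        simp only [map_one, one_mul, mul_one] at hmem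
        have h2 := Submodule.sub_mem _ hmem
          (Submodule.add_mem _ (hd i) (Ideal.mul_mem_right z _ (Ideal.mul_mem_left _ (lam z) (hd j))))
        convert h2 using 1
        ring
      have := hsymm (lam a * b)
      convert this using 1
      rw [show lam a * h i j * b = h i j * (lam a * b) by ring]
    obtain ⟨x, hx⟩ := hx
    have hall : ∀ s : Finset n,
        form lam h (∑ l ∈ s, Pi.single l (x l)) (∑ l ∈ s, Pi.single l (x l)) ∈ Ring.jacobson A := by
      intro s
      induction s using Finset.induction_on with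
      | empty =>
        simp [form, dotProduct]
      | @insert k s hks ih =>
        rw [Finset.sum_insert hks, form_add_left, form_add_right, form_add_right, form_single,
          form_swap hlam hh (Pi.single k (x k)) (∑ l ∈ s, Pi.single l (x l)),
          show ∀ a b c d : A, a + b + (c + d) = (a + d) + (b + c) by intros; ring]
        refine Submodule.add_mem _ (Submodule.add_mem _
          (Ideal.mul_mem_right _ _ (Ideal.mul_mem_left _ _ (hd k))) ih) ?_
        suffices hs : ∀ t : Finset n, k ∉ t →
            form lam h (Pi.single k (x k)) (∑ l ∈ t, Pi.single l (x l)) +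
              ε * lam (form lam h (Pi.single k (x k)) (∑ l ∈ t, Pi.single l (x l))) ∈
                Ring.jacobson A by exact hs s hks
        intro t
        induction t using Finset.induction_on with
        | empty => intro _; simp [form, dotProduct]
        | @insert l t hlt iht =>
          intro hk
          simp only [Finset.mem_insert, not_or] at hk
          rw [Finset.sum_insert hlt, form_add_right, map_add, mul_add, form_single,
            show ∀ a b c d : A, a + b + (c + d) = (a + c) + (b + d) by intros; ring]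
          exact Submodule.add_mem _ (hpair k l hk.1 (x k) (x l)) (iht hk.2)
    have hfin := hall Finset.univ
    rw [Finset.univ_sum_single] at hfin
    haveI : Nontrivial A := hB.1.nontrivial
    haveI := isIntegral hlam hB
    obtain ⟨M, hM⟩ := Ideal.exists_maximal A
    haveI := hM
    exact hM.ne_top (Ideal.eq_top_of_isUnit_mem _ (mem_of_mem_jacobson hfin M) hx)
  obtain ⟨i, h', h1, h2⟩ := key
  exact ⟨_, h1.trans (cong_perm (Equiv.swap i₀ i) h'), by simpa using h2⟩

theorem diag_of_hasUnit (n : ℕ) (h : Matrix (Fin n) (Fin n) A) (hu : IsUnit h)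
    (hh : ε • ct lam h = h) (hx : n = 0 ∨ ∃ x, IsUnit (form lam h x x)) :
    ∃ d : Fin n → A, Cong lam h (Matrix.diagonal d) := by
  induction n with
  | zero => exact ⟨Fin.elim0, 1, isUnit_one, by ext i; exact i.elim0⟩
  | succ n ih =>
    classical
    let e : Fin 1 ⊕ Fin n ≃ Fin (n + 1) := finSumFinEquiv.trans (finCongr (add_comm 1 n))
    set g := h.submatrix e e with hg
    have hgu : IsUnit g := (Matrix.isUnit_submatrix_equiv e e).mpr hu
    have hgh : ε • ct lam g = g := by
      rw [hg, ct_submatrix]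
      exact congrArg (fun m : Matrix _ _ A => m.submatrix e e) hh
    suffices hgoal : ∃ d : Fin 1 ⊕ Fin n → A, Cong lam g (Matrix.diagonal d) by
      obtain ⟨d, hd⟩ := hgoal
      refine ⟨d ∘ e.symm, ?_⟩
      have := hd.submatrix e.symm
      rw [Matrix.submatrix_diagonal_equiv, hg, Matrix.submatrix_submatrix] at this
      simpa using this
    have hgx : ∃ x, IsUnit (form lam g x x) := by
      obtain ⟨x, hx⟩ := hx.resolve_left (Nat.succ_ne_zero n)
      refine ⟨x ∘ e, ?_⟩
      convert hx using 1
      simp only [form, dotProduct, Matrix.mulVec, hg, Matrix.submatrix_apply, Function.comp_apply]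
      rw [← e.sum_comp (fun i => lam (x i) * ∑ j, h i j * x j)]
      refine Finset.sum_congr rfl fun i _ => ?_
      rw [← e.sum_comp (fun j => h (e i) j * x j)]
    have splitFn : ∀ g' : Matrix (Fin 1 ⊕ Fin n) (Fin 1 ⊕ Fin n) A, IsUnit g' → ε • ct lam g' = g' →
        IsUnit (g' (Sum.inl 0) (Sum.inl 0)) →
        ∃ S, Cong lam g' (fromBlocks g'.toBlocks₁₁ 0 0 S) ∧ IsUnit S ∧ ε • ct lam S = S ∧
          S = g'.toBlocks₂₂ - g'.toBlocks₂₁ * g'.toBlocks₁₁⁻¹ * g'.toBlocks₁₂ := by
      intro g' hu' hh' hc
      have hP : IsUnit g'.toBlocks₁₁ := by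
        rw [Matrix.isUnit_iff_isUnit_det, Matrix.det_fin_one]
        exact hc
      have hcg : Cong lam g' (fromBlocks g'.toBlocks₁₁ 0 0
          (g'.toBlocks₂₂ - g'.toBlocks₂₁ * g'.toBlocks₁₁⁻¹ * g'.toBlocks₁₂)) := by
        have := cong_split hlam (ε := ε) (P := g'.toBlocks₁₁) (Q := g'.toBlocks₁₂) (R := g'.toBlocks₂₁)
          (S := g'.toBlocks₂₂) (by rw [Matrix.fromBlocks_toBlocks]; exact hh') hP
        rwa [Matrix.fromBlocks_toBlocks] at this
      refine ⟨_, hcg, (Matrix.isUnit_fromBlocks_zero₁₂.mp (hcg.isUnit hu')).2, ?_, rfl⟩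
      have := Cong.herm hlam hcg hh'
      rw [ct_fromBlocks, Matrix.fromBlocks_smul] at this
      exact (Matrix.fromBlocks_inj.mp this).2.2.2
    have finish : ∀ g' : Matrix (Fin 1 ⊕ Fin n) (Fin 1 ⊕ Fin n) A, Cong lam g g' →
        ∀ (P : Matrix (Fin 1) (Fin 1) A) (S : Matrix (Fin n) (Fin n) A), Cong lam g' (fromBlocks P 0 0 S) →
        IsUnit S → ε • ct lam S = S → (n = 0 ∨ ∃ x, IsUnit (form lam S x x)) →
        ∃ d, Cong lam g (Matrix.diagonal d) := by
      intro g' h1 P S h2 hS1 hS2 hS3
      obtain ⟨d, hd⟩ := ih S hS1 hS2 hS3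
      refine ⟨Sum.elim (fun _ => P 0 0) d, ?_⟩
      have := h1.trans (h2.trans (fromBlocks_cong P hd))
      convert this using 1
      ext (i | i) (j | j) <;> simp [Matrix.diagonal_apply, Fin.fin_one_eq_zero]
    obtain ⟨g1, hc1, hcorner⟩ := exists_cong_corner hlam hB hε (Sum.inl 0) hgh hgx
    obtain ⟨S, hS, hSu, hSh, -⟩ := splitFn g1 (hc1.isUnit hgu) (Cong.herm hlam hc1 hgh) hcorner
    by_cases hSx : n = 0 ∨ ∃ x, IsUnit (form lam S x x)
    · exact finish g1 hc1 _ S hS hSu hSh hSx
    push Not at hSx
    obtain ⟨hn0, hSx⟩ := hSx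
    have hSJ : ∀ x, form lam S x x ∈ Ring.jacobson A := fun x =>
      (form_mem_or_isUnit hlam hB hε hSh x).resolve_left (hSx x)
    let i0 : Fin n := ⟨0, Nat.pos_of_ne_zero hn0⟩
    set P := g1.toBlocks₁₁ with hPdef
    set U : Matrix (Fin n) (Fin 1) A := Matrix.of fun i _ => if i = i0 then 1 else 0 with hU
    set V := fromBlocks (1 : Matrix (Fin 1) (Fin 1) A) 0 U (1 : Matrix (Fin n) (Fin n) A) with hV
    have hVu : IsUnit V := Matrix.isUnit_fromBlocks_zero₁₂.mpr ⟨isUnit_one, isUnit_one⟩
    set g2 := ct lam V * fromBlocks P 0 0 S * V with hg2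
    have hc2 : Cong lam g g2 := hc1.trans (hS.trans ⟨V, hVu, rfl⟩)
    have hg2' : g2 = fromBlocks (P + ct lam U * S * U) (ct lam U * S) (S * U) S := by
      have h0 : ct lam (0 : Matrix (Fin 1) (Fin n) A) = 0 := by ext i j; simp [ct_apply]
      simp [hg2, hV, ct_fromBlocks, ct_one, h0, Matrix.fromBlocks_multiply]
    have hUvec : ∀ y : Fin n → A, ((ct lam U * S) *ᵥ y) 0 = form lam S (Pi.single i0 1) y := by
      intro y
      rw [← Matrix.mulVec_mulVec]
      simp [form, Matrix.mulVec, dotProduct, hU, ct_apply, Pi.single_apply, apply_ite lam]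
    set a := (P + ct lam U * S * U) 0 0 with ha
    have hqa : (ct lam U * S * U) 0 0 = form lam S (Pi.single i0 1) (Pi.single i0 1) := by
      rw [← hUvec, Matrix.mul_apply, Matrix.mulVec, dotProduct]
      simp [hU, Pi.single_apply]
    have hau : IsUnit a := by
      rw [ha, Matrix.add_apply, hqa]
      exact isUnit_add_of_mem_jacobson hlam hB hcorner (hSJ _)
    obtain ⟨S2, hS2, hS2u, hS2h, hS2e⟩ :=
      splitFn g2 (hc2.isUnit hgu) (Cong.herm hlam hc2 hgh) (by rw [hg2']; exact hau)
    refine finish g2 hc2 _ S2 hS2 hS2u hS2h (Or.inr ?_)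
    obtain ⟨w, hw⟩ : ∃ w, form lam S (Pi.single i0 1) w = 1 := by
      refine ⟨S⁻¹ *ᵥ Pi.single i0 1, ?_⟩
      rw [form, Matrix.mulVec_mulVec,
        Matrix.mul_nonsing_inv _ ((Matrix.isUnit_iff_isUnit_det S).mp hSu), Matrix.one_mulVec]
      simp [dotProduct, Pi.single_apply]
    refine ⟨w, ?_⟩
    rw [hS2e, hg2']
    simp only [Matrix.toBlocks_fromBlocks₁₁, Matrix.toBlocks_fromBlocks₁₂,
      Matrix.toBlocks_fromBlocks₂₁, Matrix.toBlocks_fromBlocks₂₂]
    have hinv : (P + ct lam U * S * U)⁻¹ 0 0 * a = 1 := by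
      have := congrFun (congrFun (Matrix.nonsing_inv_mul (P + ct lam U * S * U)
        (by rw [Matrix.det_fin_one]; exact hau)) 0) 0
      rwa [Matrix.mul_apply, Fin.sum_univ_one, Matrix.one_apply_eq] at this
    set c := (P + ct lam U * S * U)⁻¹ with hc
    have hval : form lam (S - S * U * c * (ct lam U * S)) w w =
        form lam S w w - (ε * lam (form lam S (Pi.single i0 1) w)) * c 0 0 *
          form lam S (Pi.single i0 1) w := by
      have h3 : form lam (S - S * U * c * (ct lam U * S)) w w =
          form lam S w w - (fun i => lam (w i)) ⬝ᵥ ((S * U) *ᵥ (c *ᵥ ((ct lam U * S) *ᵥ w))) := by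
        rw [form, Matrix.sub_mulVec, dotProduct_sub]
        congr 1
        rw [Matrix.mulVec_mulVec, Matrix.mulVec_mulVec, Matrix.mul_assoc (S * U)]
      rw [h3, ← form_swap hlam hSh]
      congr 1
      simp only [form, dotProduct, Matrix.mulVec, Fin.sum_univ_one]
      have e1 : ∑ j, (ct lam U * S) 0 j * w j = ∑ j, lam ((Pi.single i0 1 : Fin n → A) j) * ∑ l, S j l * w l := by
        have := hUvec w
        simpa [form, Matrix.mulVec, dotProduct] using this
      rw [e1, mul_assoc, Finset.sum_mul]
      refine Finset.sum_congr rfl fun i _ => ?_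
      simp [Matrix.mul_apply, hU, Pi.single_apply]
      ring
    rw [hval, hw, map_one, sub_eq_neg_add]
    refine isUnit_add_of_mem_jacobson hlam hB (IsUnit.neg ?_) (hSJ w)
    rw [mul_one, mul_one]
    exact (by rcases hε with rfl | rfl <;> simp : IsUnit ε).mul (IsUnit.of_mul_eq_one _ hinv)

theorem exists_form_unit {n : ℕ} (hn : n ≠ 0) (h : Matrix (Fin n) (Fin n) A) (hu : IsUnit h)
    (hh : ε • ct lam h = h)
    (hcase : (∃ a : A, lam a - a ∉ Ring.jacobson A) ∨ ε + 1 ∉ Ring.jacobson A ∨ Odd n) :
    ∃ x, IsUnit (form lam h x x) := by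
  by_contra hc
  push Not at hc
  have hJ : ∀ x, form lam h x x ∈ Ring.jacobson A := fun x =>
    (form_mem_or_isUnit hlam hB hε hh x).resolve_left (hc x)
  let i0 : Fin n := ⟨0, Nat.pos_of_ne_zero hn⟩
  have hz : ∀ z : A, z + ε * lam z ∈ Ring.jacobson A := by
    intro z
    have := not_allJacobson hlam hB hε hh hJ (Pi.single i0 1) (h⁻¹ *ᵥ Pi.single i0 z)
    have e : form lam h (Pi.single i0 1) (h⁻¹ *ᵥ Pi.single i0 z) = z := by
      rw [form, Matrix.mulVec_mulVec,
        Matrix.mul_nonsing_inv _ ((Matrix.isUnit_iff_isUnit_det h).mp hu), Matrix.one_mulVec]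
      simp [dotProduct, Pi.single_apply]
    rwa [e] at this
  rcases hcase with ⟨a, ha⟩ | h1 | hodd
  · apply ha
    have h2 := Submodule.sub_mem _ (Ideal.mul_mem_right (lam a) _ (hz 1)) (hz a)
    convert h2 using 1
    rw [map_one]; ring
  · exact h1 (by simpa [add_comm] using hz 1)
  · haveI : Nontrivial A := hB.1.nontrivial
    obtain ⟨M, hM⟩ := Ideal.exists_maximal A
    haveI := hM
    let π := Ideal.Quotient.mk M
    have hmem : ∀ x ∈ Ring.jacobson A, π x = 0 := fun x hx =>
      Ideal.Quotient.eq_zero_iff_mem.mpr (mem_of_mem_jacobson hx M)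
    have hdet : (π.mapMatrix h).det = 0 := by
      refine det_alternating hodd _ (fun i => ?_) (fun i j => ?_)
      · have := hJ (Pi.single i 1)
        rw [form_single] at this
        simpa using hmem _ this
      · have := hmem _ (not_allJacobson hlam hB hε hh hJ (Pi.single i 1) (Pi.single j 1))
        rw [form_single] at this
        simp only [map_one, one_mul, mul_one] at this
        have h3 := congrFun (congrFun hh j) i
        simp only [Matrix.smul_apply, smul_eq_mul, ct_apply] at h3
        rw [h3, map_add] at this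
        simpa [eq_neg_iff_add_eq_zero, add_comm] using this
    rw [← RingHom.map_det] at hdet
    exact hM.ne_top (Ideal.eq_top_of_isUnit_mem _ (Ideal.Quotient.eq_zero_iff_mem.mp hdet)
      ((Matrix.isUnit_iff_isUnit_det h).mp hu))

end Diag

end Groth.Agent.H23RInv.Herm

namespace Groth.Agent.H23RInv.Herm

section Skew

variable {A : Type v} [CommRing A] {lam : A ≃+* A} {B : Type u} [CommRing B] [Algebra B A]
  [IsLocalRing B] (hlam : Function.Involutive lam) (hB : RInv.IsFixedRing B A lam)
  (hid : ∀ a : A, lam a - a ∈ Ring.jacobson A) (h2 : IsUnit (2 : A))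

/-- Standard alternating shape modulo the radical. -/
def IsStd {n : ℕ} (M : Matrix (Fin n) (Fin n) A) (i j : Fin n) : Prop :=
  (i.val / 2 ≠ j.val / 2 → M i j = 0) ∧
  (i.val / 2 = j.val / 2 → (Even i.val ↔ Even j.val) → M i j ∈ Ring.jacobson A) ∧
  (i.val / 2 = j.val / 2 → Even i.val → ¬ Even j.val → M i j - 1 ∈ Ring.jacobson A) ∧
  (i.val / 2 = j.val / 2 → ¬ Even i.val → Even j.val → M i j + 1 ∈ Ring.jacobson A)

include hlam hB hid h2

theorem exists_std : ∀ (n : ℕ) (h : Matrix (Fin n) (Fin n) A), IsUnit h → (-1 : A) • ct lam h = h →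
    Even n ∧ ∃ h', Cong lam h h' ∧ ∀ i j, IsStd h' i j := by
  haveI : IsLocalRing A := isLocalRing_of_forall hlam hB hid
  have hdiag : ∀ {n : ℕ} {h : Matrix (Fin n) (Fin n) A}, (-1 : A) • ct lam h = h →
      ∀ i, h i i ∈ Ring.jacobson A := by
    intro n h hh i
    have h1 := congrFun (congrFun hh i) i
    simp only [Matrix.smul_apply, smul_eq_mul, neg_one_mul, ct_apply] at h1
    have h3 := hid (h i i)
    rw [neg_eq_iff_eq_neg.mp h1] at h3
    obtain ⟨u, hu⟩ := h2
    have h4 : (2 : A) * h i i ∈ Ring.jacobson A := by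
      convert Submodule.neg_mem _ h3 using 1; ring
    rw [← hu] at h4
    simpa using Ideal.mul_mem_left _ (↑u⁻¹ : A) h4
  intro n
  induction n using Nat.twoStepInduction with
  | zero => exact fun h _ _ => ⟨Even.zero, h, Cong.rfl' h, fun i => i.elim0⟩
  | one =>
    intro h hu hh
    rw [Matrix.isUnit_iff_isUnit_det, Matrix.det_fin_one] at hu
    have := hdiag hh 0
    rw [IsLocalRing.ringJacobson_eq_maximalIdeal] at this
    exact absurd hu this
  | more n ih _ =>
    intro h hu hh
    obtain ⟨j, hj⟩ : ∃ j, IsUnit (h 0 j) := by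
      by_contra hc
      push Not at hc
      have h1 := congrFun (congrFun (Matrix.mul_nonsing_inv h ((Matrix.isUnit_iff_isUnit_det h).mp hu)) 0) 0
      rw [Matrix.mul_apply, Matrix.one_apply_eq] at h1
      have hm : ∑ j, h 0 j * h⁻¹ j 0 ∈ IsLocalRing.maximalIdeal A :=
        Submodule.sum_mem _ fun j _ => Ideal.mul_mem_right _ _ (hc j)
      rw [h1] at hm
      exact hm isUnit_one
    have hj0 : j ≠ 0 := by
      rintro rfl
      have := hdiag hh 0
      rw [IsLocalRing.ringJacobson_eq_maximalIdeal] at this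
      exact this hj
    have h10 : (1 : Fin (n + 2)) ≠ 0 := by simp
    set h1 := h.submatrix (Equiv.swap 1 j) (Equiv.swap 1 j) with hh1
    have hc1 : Cong lam h h1 := cong_perm _ h
    have hb : IsUnit (h1 0 1) := by
      simpa [hh1, Equiv.swap_apply_of_ne_of_ne h10.symm hj0.symm] using hj
    obtain ⟨b, hb⟩ := hb
    set D : Fin (n + 2) → A := fun i => if i = 1 then (↑b⁻¹ : A) else 1 with hD
    set h2' := ct lam (Matrix.diagonal D) * h1 * Matrix.diagonal D with hh2
    have hc2 : Cong lam h h2' := hc1.trans ⟨Matrix.diagonal D, by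
      rw [Matrix.isUnit_diagonal, Pi.isUnit_iff]
      intro i
      by_cases hi : i = 1 <;> simp [hD, hi], rfl⟩
    have h01 : h2' 0 1 = 1 := by
      have hctD : ct lam (Matrix.diagonal D) = Matrix.diagonal (fun i => lam (D i)) := by
        ext i l
        by_cases hil : i = l
        · subst hil; simp [ct_apply]
        · simp [ct_apply, hil, Ne.symm hil]
      rw [hh2, hctD, Matrix.mul_diagonal, Matrix.diagonal_mul]
      simp [hD, ← hb]
    let e : Fin 2 ⊕ Fin n ≃ Fin (n + 2) := finSumFinEquiv.trans (finCongr (add_comm 2 n))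
    have hg : (-1 : A) • ct lam (h2'.submatrix e e) = h2'.submatrix e e := by
      rw [ct_submatrix]
      exact congrArg (fun m : Matrix _ _ A => m.submatrix e e) (Cong.herm hlam hc2 hh)
    have e0 : e (Sum.inl 0) = 0 := by ext; simp [e]
    have e1 : e (Sum.inl 1) = 1 := by ext; simp [e]
    set g := h2'.submatrix e e with hgdef
    have hgd : ∀ x, g x x ∈ Ring.jacobson A := fun x => hdiag (Cong.herm hlam hc2 hh) (e x)
    have hg01 : g (Sum.inl 0) (Sum.inl 1) = 1 := by rw [hgdef, Matrix.submatrix_apply, e0, e1, h01]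
    have hg10 : g (Sum.inl 1) (Sum.inl 0) = -1 := by
      have := congrFun (congrFun hg (Sum.inl 1)) (Sum.inl 0)
      simpa [ct_apply, hg01] using this.symm
    have hP : IsUnit g.toBlocks₁₁ := by
      rw [Matrix.isUnit_iff_isUnit_det, Matrix.det_fin_two]
      simp only [Matrix.toBlocks₁₁, Matrix.of_apply, hg01, hg10, one_mul, sub_neg_eq_add, add_comm _ (1 : A)]
      exact isUnit_add_of_mem_jacobson hlam hB isUnit_one (Ideal.mul_mem_right _ _ (hgd _))
    have hcg := cong_split hlam (ε := (-1 : A)) (P := g.toBlocks₁₁) (Q := g.toBlocks₁₂)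
      (R := g.toBlocks₂₁) (S := g.toBlocks₂₂) (by rw [Matrix.fromBlocks_toBlocks]; exact hg) hP
    rw [Matrix.fromBlocks_toBlocks] at hcg
    have hgu : IsUnit g := (Matrix.isUnit_submatrix_equiv e e).mpr (hc2.isUnit hu)
    have hSu := (Matrix.isUnit_fromBlocks_zero₁₂.mp (hcg.isUnit hgu)).2
    have hSh := Cong.herm hlam hcg hg
    rw [ct_fromBlocks, Matrix.fromBlocks_smul] at hSh
    obtain ⟨heven, S', hS', hstd⟩ := ih _ hSu (Matrix.fromBlocks_inj.mp hSh).2.2.2
    refine ⟨by simpa [Nat.even_add] using heven, _,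
      hc2.trans (by simpa [hgdef] using (hcg.trans (fromBlocks_cong _ hS')).submatrix e.symm), ?_⟩
    intro i l
    obtain ⟨i', rfl⟩ := e.surjective i
    obtain ⟨l', rfl⟩ := e.surjective l
    rcases i' with i | i <;> rcases l' with l | l
    · unfold IsStd
      simp only [Matrix.submatrix_apply, Equiv.symm_apply_apply, Matrix.fromBlocks_apply₁₁,
        Matrix.toBlocks₁₁, Matrix.of_apply]
      have hi : (e (Sum.inl i)).val = i.val := by simp [e]; try omega
      have hl : (e (Sum.inl l)).val = l.val := by simp [e]; try omega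
      rw [hi, hl]
      fin_cases i <;> fin_cases l <;> simp
      · exact hgd (Sum.inl 0)
      · rw [e0, e1, h01, sub_self]; exact Submodule.zero_mem _
      · rw [show h2' (e (Sum.inl 1)) (e (Sum.inl 0)) = -1 from hg10, neg_add_cancel]
        exact Submodule.zero_mem _
      · exact hgd (Sum.inl 1)
    · have hi : (e (Sum.inl i)).val = i.val := by simp [e]; try omega
      have hl : (e (Sum.inr l)).val = 2 + l.val := by simp [e]; try omega
      unfold IsStd
      simp only [Matrix.submatrix_apply, Equiv.symm_apply_apply, Matrix.fromBlocks_apply₁₂,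
        Matrix.zero_apply, hi, hl]
      have := i.isLt
      refine ⟨fun _ => trivial, fun h => ?_, fun h => ?_, fun h => ?_⟩ <;> omega
    · have hi : (e (Sum.inr i)).val = 2 + i.val := by simp [e]; try omega
      have hl : (e (Sum.inl l)).val = l.val := by simp [e]; try omega
      unfold IsStd
      simp only [Matrix.submatrix_apply, Equiv.symm_apply_apply, Matrix.fromBlocks_apply₂₁,
        Matrix.zero_apply, hi, hl]
      have := l.isLt
      refine ⟨fun _ => trivial, fun h => ?_, fun h => ?_, fun h => ?_⟩ <;> omega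
    · have hi : (e (Sum.inr i)).val = 2 + i.val := by simp [e]; try omega
      have hl : (e (Sum.inr l)).val = 2 + l.val := by simp [e]; try omega
      have := hstd i l
      unfold IsStd at this ⊢
      simp only [Matrix.submatrix_apply, Equiv.symm_apply_apply, Matrix.fromBlocks_apply₂₂, hi, hl]
      simpa [Nat.even_add] using this

end Skew

end Groth.Agent.H23RInv.Herm
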